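import Groth.Agent.RGLib.Lim8Hom
import Groth.Prelude.Def_Desc
import Mathlib.CategoryTheory.Sites.Descent.DescentData

/-!
# Descent data of pulled back modules on sections
-/

set_option autoImplicit false
set_option linter.style.haveILetI false
set_option backward.isDefEq.respectTransparency false
set_option backward.isDefEq.respectTransparency.types false

universe u

open CategoryTheory CategoryTheory.Limits AlgebraicGeometry TopologicalSpace Opposite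

namespace Groth.Agent.QCohDesc

open Groth.Agent.QCoh Groth.Agent.RGLib.Lim8

variable {X Y Z : Scheme.{u}}

/-- `g^* f^* G ≅ h^* G` for `g ≫ f = h`. -/
noncomputable def cmpIso (g : Z ⟶ Y) (f : Y ⟶ X) (h : Z ⟶ X) (w : g ≫ f = h) (G : X.Modules) :
    (Scheme.Modules.pullback g).obj ((Scheme.Modules.pullback f).obj G) ≅ (Scheme.Modules.pullback h).obj G :=
  (Scheme.Modules.pullbackComp g f ≪≫ Scheme.Modules.pullbackCongr w).app G

theorem mapComp'_inv (g : Z ⟶ Y) (f : Y ⟶ X) (h : Z ⟶ X) (w : g ≫ f = h) (G : X.Modules)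
    (hh : f.op.toLoc ≫ g.op.toLoc = h.op.toLoc) :
    (Desc.modPF.{u}.mapComp' f.op.toLoc g.op.toLoc h.op.toLoc hh).inv.toNatTrans.app G =
      (cmpIso g f h w G).hom := by
  subst w
  show (Desc.modPF.{u}.mapComp' f.op.toLoc g.op.toLoc (f.op.toLoc ≫ g.op.toLoc) rfl).inv.toNatTrans.app G = _
  rw [Pseudofunctor.mapComp'_eq_mapComp]
  show (Scheme.Modules.pullbackComp g f).hom.app G =
    ((Scheme.Modules.pullbackComp g f) ≪≫ Scheme.Modules.pullbackCongr (rfl : g ≫ f = g ≫ f)).hom.app G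
  rw [Iso.trans_hom, NatTrans.comp_app]
  exact (Category.comp_id _).symm

theorem mapComp'_hom (g : Z ⟶ Y) (f : Y ⟶ X) (h : Z ⟶ X) (w : g ≫ f = h) (G : X.Modules)
    (hh : f.op.toLoc ≫ g.op.toLoc = h.op.toLoc) :
    (Desc.modPF.{u}.mapComp' f.op.toLoc g.op.toLoc h.op.toLoc hh).hom.toNatTrans.app G =
      (cmpIso g f h w G).inv := by
  subst w
  show (Desc.modPF.{u}.mapComp' f.op.toLoc g.op.toLoc (f.op.toLoc ≫ g.op.toLoc) rfl).hom.toNatTrans.app G = _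
  rw [Pseudofunctor.mapComp'_eq_mapComp]
  show (Scheme.Modules.pullbackComp g f).inv.app G =
    ((Scheme.Modules.pullbackComp g f) ≪≫ Scheme.Modules.pullbackCongr (rfl : g ≫ f = g ≫ f)).inv.app G
  rw [Iso.trans_inv, NatTrans.comp_app]
  exact (Category.id_comp _).symm

variable {ι : Type u} {S : Scheme.{u}} {Xf : ι → Scheme.{u}} {f : ∀ i, Xf i ⟶ S}

/-- The compatibility of a morphism of canonical descent data, on sections. -/
theorem cmp_hom_eq {M N : S.Modules}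
    (φ : (Desc.modPF.{u}.toDescentData f).obj M ⟶ (Desc.modPF.{u}.toDescentData f).obj N)
    {T : Scheme.{u}} (q : T ⟶ S) {i j : ι} (g₁ : T ⟶ Xf i) (g₂ : T ⟶ Xf j) (h₁ : g₁ ≫ f i = q) (h₂ : g₂ ≫ f j = q)
    {V : S.Opens} {Ui : (Xf i).Opens} {Uj : (Xf j).Opens} {W : T.Opens} (hi : Ui ≤ f i ⁻¹ᵁ V) (hj : Uj ≤ f j ⁻¹ᵁ V)
    (h₁' : W ≤ g₁ ⁻¹ᵁ Ui) (h₂' : W ≤ g₂ ⁻¹ᵁ Uj) (hq : W ≤ q ⁻¹ᵁ V) (x : Γ(M, V)) :
    cmp g₁ (f i) q h₁ N h₁'
        ((show (Scheme.Modules.pullback (f i)).obj M ⟶ (Scheme.Modules.pullback (f i)).obj N from φ.hom i).app Ui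
          (pullSec (f i) M hi x)) =
      cmp g₂ (f j) q h₂ N h₂'
        ((show (Scheme.Modules.pullback (f j)).obj M ⟶ (Scheme.Modules.pullback (f j)).obj N from φ.hom j).app Uj
          (pullSec (f j) M hj x)) := by
  let φi : (Scheme.Modules.pullback (f i)).obj M ⟶ (Scheme.Modules.pullback (f i)).obj N := φ.hom i
  let φj : (Scheme.Modules.pullback (f j)).obj M ⟶ (Scheme.Modules.pullback (f j)).obj N := φ.hom j
  have hc : (Scheme.Modules.pullback g₁).map φi ≫ ((cmpIso g₁ (f i) q h₁ N).hom ≫ (cmpIso g₂ (f j) q h₂ N).inv) =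
      ((cmpIso g₁ (f i) q h₁ M).hom ≫ (cmpIso g₂ (f j) q h₂ M).inv) ≫ (Scheme.Modules.pullback g₂).map φj := by
    have h := φ.comm q g₁ g₂ h₁ h₂
    rw [← mapComp'_inv g₁ (f i) q h₁ N (by rw [← h₁]; rfl), ← mapComp'_hom g₂ (f j) q h₂ N (by rw [← h₂]; rfl),
      ← mapComp'_inv g₁ (f i) q h₁ M (by rw [← h₁]; rfl), ← mapComp'_hom g₂ (f j) q h₂ M (by rw [← h₂]; rfl)]
    exact h
  rw [← cancel_mono (cmpIso g₂ (f j) q h₂ N).hom] at hc
  simp only [Category.assoc, Iso.inv_hom_id, Category.comp_id] at hc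
  let C1 := cmpIso g₁ (f i) q h₁ M
  let C2 := cmpIso g₂ (f j) q h₂ M
  have e1 : C1.hom.app W (pullSec g₁ _ h₁' (pullSec (f i) M hi x)) = pullSec q M hq x :=
    cmp_pullSec g₁ (f i) q h₁ M hi h₁' hq x
  have e2 : C2.hom.app W (pullSec g₂ _ h₂' (pullSec (f j) M hj x)) = pullSec q M hq x :=
    cmp_pullSec g₂ (f j) q h₂ M hj h₂' hq x
  have e3 : C2.inv.app W (pullSec q M hq x) = pullSec g₂ _ h₂' (pullSec (f j) M hj x) := by
    rw [← e2]
    exact congrArg (fun ψ : (Scheme.Modules.pullback g₂).obj ((Scheme.Modules.pullback (f j)).obj M) ⟶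
      (Scheme.Modules.pullback g₂).obj ((Scheme.Modules.pullback (f j)).obj M) =>
        ψ.app W (pullSec g₂ _ h₂' (pullSec (f j) M hj x))) C2.hom_inv_id
  show (cmpIso g₁ (f i) q h₁ N).hom.app W (pullSec g₁ _ h₁' (φi.app Ui (pullSec (f i) M hi x))) =
    (cmpIso g₂ (f j) q h₂ N).hom.app W (pullSec g₂ _ h₂' (φj.app Uj (pullSec (f j) M hj x)))
  rw [← pullSec_naturality g₁ φi h₁', ← pullSec_naturality g₂ φj h₂', ← e3, ← e1]
  exact congrArg (fun ψ : _ ⟶ (Scheme.Modules.pullback q).obj N =>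
    ψ.app W (pullSec g₁ _ h₁' (pullSec (f i) M hi x))) hc

theorem appLE_specMap_fromSpec {U : X.Opens} (hU : IsAffineOpen U) {C : CommRingCat.{u}} (φ : Γ(X, U) ⟶ C)
    (hle : (⊤ : (Spec C).Opens) ≤ (Spec.map φ ≫ hU.fromSpec) ⁻¹ᵁ U) :
    (Spec.map φ ≫ hU.fromSpec).appLE U ⊤ hle = φ ≫ (Scheme.ΓSpecIso C).inv := by
  have h1 : (Spec.map φ ≫ hU.fromSpec).appLE U ⊤ hle =
      hU.fromSpec.app U ≫ (Spec.map φ).appLE (hU.fromSpec ⁻¹ᵁ U) ⊤ hle := by
    rw [Scheme.Hom.appLE, Scheme.Hom.comp_app, Category.assoc]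
    rfl
  rw [h1, hU.fromSpec_app_self, Category.assoc, Scheme.Hom.map_appLE]
  rw [Scheme.ΓSpecIso_inv_naturality]
  rw [Scheme.Hom.appTop, Scheme.Hom.app_eq_appLE]
  rfl

end Groth.Agent.QCohDesc
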