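import Mathlib.RingTheory.Flat.Basic
import Mathlib.RingTheory.Spectrum.Prime.RingHom
import Mathlib.LinearAlgebra.TensorProduct.Pi
import Mathlib.LinearAlgebra.TensorProduct.RightExactness
import Mathlib.LinearAlgebra.Isomorphisms

/-!
# Descent of elements along a finite jointly faithfully flat family of algebras
-/

set_option autoImplicit false

universe u

open scoped TensorProduct

namespace Groth.Agent.QCohDesc

variable {A : Type u} [CommRing A] {κ : Type u} [Finite κ] (B : κ → Type u) [∀ k, CommRing (B k)]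
  [∀ k, Algebra A (B k)] [∀ k, Module.Flat A (B k)]
  (hcov : ∀ p : PrimeSpectrum A, ∃ (k : κ) (P : PrimeSpectrum (B k)), PrimeSpectrum.comap (algebraMap A (B k)) P = p)

include hcov

omit [Finite κ] in
theorem eq_zero_of_forall_tmul {Q : Type u} [AddCommGroup Q] [Module A Q] (q : Q)
    (h : ∀ k, (1 : B k) ⊗ₜ[A] q = 0) : q = 0 := by
  by_contra hq
  let I : Ideal A := LinearMap.ker (LinearMap.toSpanSingleton A Q q)
  have hI : I ≠ ⊤ := fun hI => hq (by
    have : (1 : A) ∈ I := hI ▸ Submodule.mem_top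
    simpa [I] using this)
  obtain ⟨m, hm, hIm⟩ := Ideal.exists_le_maximal I hI
  obtain ⟨k, P, hP⟩ := hcov ⟨m, hm.isPrime⟩
  let u : (A ⧸ I) →ₗ[A] Q := Submodule.liftQ I (LinearMap.toSpanSingleton A Q q) le_rfl
  have hu : Function.Injective u := LinearMap.ker_eq_bot.1 (Submodule.ker_liftQ_eq_bot _ _ _ le_rfl)
  have h1 : (1 : B k) ⊗ₜ[A] (Ideal.Quotient.mk I (1 : A)) = 0 := by
    refine Module.Flat.lTensor_preserves_injective_linearMap (M := B k) u hu ?_
    rw [map_zero, LinearMap.lTensor_tmul]
    have : u (Ideal.Quotient.mk I (1 : A)) = q := by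
      show (LinearMap.toSpanSingleton A Q q) 1 = q
      simp
    rw [this, h k]
  have h2 := congrArg (TensorProduct.tensorQuotEquivQuotSMul (B k) I) h1
  rw [map_zero] at h2
  have h3 : (TensorProduct.tensorQuotEquivQuotSMul (B k) I) ((1 : B k) ⊗ₜ[A] Ideal.Quotient.mk I (1 : A)) =
      Submodule.Quotient.mk (1 : B k) := by rw [TensorProduct.tensorQuotEquivQuotSMul_tmul_mk, one_smul]
  rw [h3, Submodule.Quotient.mk_eq_zero, Ideal.smul_top_eq_map, Submodule.restrictScalars_mem] at h2
  refine P.isPrime.ne_top ((Ideal.eq_top_iff_one _).2 ?_)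
  refine Ideal.map_le_iff_le_comap.2 (hIm.trans_eq ?_) h2
  exact (congrArg PrimeSpectrum.asIdeal hP).symm

omit [Finite κ] in
/-- An element is determined by its images. -/
theorem ext_of_forall_tmul {N : Type u} [AddCommGroup N] [Module A N] {n n' : N}
    (h : ∀ k, (1 : B k) ⊗ₜ[A] n = (1 : B k) ⊗ₜ[A] n') : n = n' :=
  sub_eq_zero.1 (eq_zero_of_forall_tmul B hcov _ fun k => by rw [TensorProduct.tmul_sub, h k, sub_self])

/-- A compatible family of elements of the base changes comes from an element. -/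
theorem exists_of_cocycle {N : Type u} [AddCommGroup N] [Module A N] (z : ∀ k, B k ⊗[A] N)
    (hz : ∀ j k, (1 : B j) ⊗ₜ[A] z k = LinearMap.lTensor (B j) (TensorProduct.mk A (B k) N 1) (z j)) :
    ∃ n : N, ∀ k, (1 : B k) ⊗ₜ[A] n = z k := by
  classical
  haveI := Fintype.ofFinite κ
  let δ : N →ₗ[A] ∀ k, B k ⊗[A] N := LinearMap.pi fun k => TensorProduct.mk A (B k) N 1
  have hmem : z ∈ LinearMap.range δ := by
    rw [← Submodule.Quotient.mk_eq_zero (LinearMap.range δ)]
    refine eq_zero_of_forall_tmul (Q := (∀ k, B k ⊗[A] N) ⧸ LinearMap.range δ) B hcov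
      (Submodule.Quotient.mk z) fun j => ?_
    have hx : ∀ x : B j ⊗[A] N, ∀ k, TensorProduct.piRight A A (B j) (fun k => B k ⊗[A] N) (δ.lTensor (B j) x) k =
        LinearMap.lTensor (B j) (TensorProduct.mk A (B k) N 1) x := fun x k => by
      induction x using TensorProduct.induction_on with
      | zero => simp
      | tmul b n => simp [δ]
      | add x y hx hy => simp only [map_add, Pi.add_apply, hx, hy]
    have h1 : (1 : B j) ⊗ₜ[A] z = δ.lTensor (B j) (z j) := by
      apply (TensorProduct.piRight A A (B j) (fun k => B k ⊗[A] N)).injective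
      funext k
      rw [hx]
      simpa using hz j k
    have h2 : (LinearMap.range δ).mkQ.lTensor (B j) (δ.lTensor (B j) (z j)) = 0 := by
      rw [← LinearMap.comp_apply, ← LinearMap.lTensor_comp, LinearMap.range_mkQ_comp, LinearMap.lTensor_zero,
        LinearMap.zero_apply]
    rw [← h1, LinearMap.lTensor_tmul] at h2
    exact h2
  obtain ⟨n, hn⟩ := hmem
  exact ⟨n, fun k => congrFun hn k⟩

end Groth.Agent.QCohDesc
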