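import Groth.Agent.QCohDesc.Alg
import Mathlib.RingTheory.IsTensorProduct

/-!
# Effectiveness of descent for modules along a finite jointly faithfully flat family of algebras
-/

set_option autoImplicit false
set_option maxHeartbeats 1000000

universe u

open scoped TensorProduct

namespace Groth.Agent.QCohDesc

section

variable {A : Type u} [CommRing A] {κ : Type u} [Finite κ] (B : κ → Type u) [∀ k, CommRing (B k)]
  [∀ k, Algebra A (B k)] (M : κ → Type u) [∀ k, AddCommGroup (M k)] [∀ k, Module A (M k)]
  [∀ k, Module (B k) (M k)] [∀ k, IsScalarTower A (B k) (M k)]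
  (θ : ∀ j k, M j →ₗ[B j] B j ⊗[A] M k)

/-- The compatible families. -/
def eqz : Submodule A (∀ k, M k) where
  carrier := {m | ∀ k l, θ k l (m k) = (1 : B k) ⊗ₜ[A] m l}
  add_mem' {m m'} hm hm' k l := by
    simp only [Pi.add_apply, map_add, hm k l, hm' k l, TensorProduct.tmul_add]
  zero_mem' k l := by simp only [Pi.zero_apply, map_zero, TensorProduct.tmul_zero]
  smul_mem' r m hm k l := by
    simp only [Pi.smul_apply, LinearMap.map_smul_of_tower, hm k l, TensorProduct.tmul_smul]

/-- The counit condition. -/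
def Counit : Prop :=
  ∀ j (x : M j), LinearMap.liftBaseChange (B j) (LinearMap.id : M j →ₗ[A] M j) (θ j j x) = x

/-- The cocycle condition. -/
def Cocycle : Prop :=
  ∀ j k l (x : M j), LinearMap.lTensor (B j) ((θ k l).restrictScalars A) (θ j k x) =
    LinearMap.lTensor (B j) (TensorProduct.mk A (B k) (M l) 1) (θ j l x)

/-- The evaluation of a compatible family. -/
noncomputable def beta (j : κ) : B j ⊗[A] eqz B M θ →ₗ[B j] M j :=
  LinearMap.liftBaseChange (B j) (LinearMap.proj j ∘ₗ (eqz B M θ).subtype)

theorem beta_tmul (j : κ) (b : B j) (n : eqz B M θ) : beta B M θ j (b ⊗ₜ[A] n) = b • n.1 j := by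
  simp [beta]

theorem bijective_beta [∀ k, Module.Flat A (B k)] (hcu : Counit B M θ) (hco : Cocycle B M θ) (j : κ) :
    Function.Bijective (beta B M θ j) := by
  classical
  haveI := Fintype.ofFinite κ
  let N := eqz B M θ
  let Δ : (∀ k, M k) →ₗ[A] (∀ p : κ × κ, B p.1 ⊗[A] M p.2) := LinearMap.pi fun p =>
    (θ p.1 p.2).restrictScalars A ∘ₗ LinearMap.proj p.1 -
      (TensorProduct.mk A (B p.1) (M p.2) 1) ∘ₗ LinearMap.proj p.2
  have hex : Function.Exact N.subtype Δ := by
    intro m
    constructor
    · intro h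
      refine ⟨⟨m, fun k l => ?_⟩, rfl⟩
      simpa [Δ, sub_eq_zero] using congrFun h (k, l)
    · rintro ⟨n, rfl⟩
      funext p
      simpa [Δ, sub_eq_zero] using n.2 p.1 p.2
  have hex' : Function.Exact (N.subtype.lTensor (B j)) (Δ.lTensor (B j)) := Module.Flat.lTensor_exact (B j) hex
  have hinj : Function.Injective (N.subtype.lTensor (B j)) :=
    Module.Flat.lTensor_preserves_injective_linearMap _ N.injective_subtype
  let π := TensorProduct.piRight A A (B j) M
  have hcomp : ∀ (z : B j ⊗[A] N) (k : κ),
      π (N.subtype.lTensor (B j) z) k = θ j k (beta B M θ j z) := fun z k => by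
    induction z using TensorProduct.induction_on with
    | zero => simp
    | add a b ha hb => simp only [map_add, Pi.add_apply, ha, hb]
    | tmul b n =>
      rw [beta_tmul, map_smul, n.2 j k, TensorProduct.smul_tmul', smul_eq_mul, mul_one]
      simp [π]
  refine ⟨(injective_iff_map_eq_zero _).2 fun z hz => hinj ?_, fun x => ?_⟩
  · apply π.injective
    rw [map_zero, map_zero]
    funext k
    rw [hcomp, hz, map_zero, Pi.zero_apply]
  · let w : B j ⊗[A] (∀ k, M k) := π.symm fun k => θ j k x
    have hw : ∀ k, π w k = θ j k x := fun k => congrFun (π.apply_symm_apply _) k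
    have hΔ : ∀ (y : B j ⊗[A] (∀ k, M k)) (p : κ × κ),
        TensorProduct.piRight A A (B j) (fun p : κ × κ => B p.1 ⊗[A] M p.2) (Δ.lTensor (B j) y) p =
          LinearMap.lTensor (B j) ((θ p.1 p.2).restrictScalars A) (π y p.1) -
            LinearMap.lTensor (B j) (TensorProduct.mk A (B p.1) (M p.2) 1) (π y p.2) := fun y p => by
      induction y using TensorProduct.induction_on with
      | zero => simp
      | add a b ha hb =>
        simp only [map_add, Pi.add_apply, ha, hb]
        abel
      | tmul b m => simp [π, Δ, TensorProduct.tmul_sub]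
    have h0 : Δ.lTensor (B j) w = 0 := by
      apply (TensorProduct.piRight A A (B j) (fun p : κ × κ => B p.1 ⊗[A] M p.2)).injective
      funext p
      rw [hΔ, hw, hw, hco j p.1 p.2 x, sub_self, map_zero, Pi.zero_apply]
    obtain ⟨z, hz⟩ := (hex' w).1 h0
    refine ⟨z, ?_⟩
    have h1 : θ j j (beta B M θ j z) = θ j j x := by rw [← hcomp, hz, hw]
    rw [← hcu j (beta B M θ j z), h1, hcu j x]

end

section Restrict

variable {A : Type u} [CommRing A] {κ κ' : Type u} [Finite κ] [Finite κ'] (e : κ → κ') (B : κ' → Type u)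
  [∀ k, CommRing (B k)] [∀ k, Algebra A (B k)] (M : κ' → Type u) [∀ k, AddCommGroup (M k)] [∀ k, Module A (M k)]
  [∀ k, Module (B k) (M k)] [∀ k, IsScalarTower A (B k) (M k)]
  (θ : ∀ j k, M j →ₗ[B j] B j ⊗[A] M k)

/-- Restricting a compatible family to a subfamily. -/
def eqzRestrict : eqz B M θ →ₗ[A] eqz (fun k => B (e k)) (fun k => M (e k)) (fun j k => θ (e j) (e k)) where
  toFun n := ⟨fun k => n.1 (e k), fun k l => n.2 (e k) (e l)⟩
  map_add' _ _ := rfl
  map_smul' _ _ := rfl

/-- A compatible family extends uniquely from a covering subfamily. -/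
theorem bijective_eqzRestrict [∀ k, Module.Flat A (B k)] (hcu : Counit B M θ) (hco : Cocycle B M θ)
    (hcov : ∀ p : PrimeSpectrum A, ∃ (k : κ) (P : PrimeSpectrum (B (e k))),
      PrimeSpectrum.comap (algebraMap A (B (e k))) P = p) :
    Function.Bijective (eqzRestrict e B M θ) := by
  let r := eqzRestrict e B M θ
  have hbig := fun k => bijective_beta B M θ hcu hco (e k)
  have hsmall : ∀ k, Function.Bijective (beta (fun k => B (e k)) (fun k => M (e k)) (fun j k => θ (e j) (e k)) k) :=
    bijective_beta (fun k => B (e k)) (fun k => M (e k)) (fun j k => θ (e j) (e k)) (fun k => hcu (e k))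
      (fun a b c => hco (e a) (e b) (e c))
  have hcomp : ∀ (k : κ) (z : B (e k) ⊗[A] eqz B M θ),
      beta (fun k => B (e k)) (fun k => M (e k)) (fun j k => θ (e j) (e k)) k (r.lTensor (B (e k)) z) =
        beta B M θ (e k) z := fun k z => by
    induction z using TensorProduct.induction_on with
    | zero => simp
    | add a b ha hb => simp only [map_add, ha, hb]
    | tmul b n => rw [LinearMap.lTensor_tmul, beta_tmul, beta_tmul]; rfl
  have hr : ∀ k, Function.Bijective (r.lTensor (B (e k))) := fun k =>
    (Function.Bijective.of_comp_iff' (hsmall k) _).1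
      ((congrArg Function.Bijective (funext (hcomp k))).mpr (hbig k))
  refine ⟨(injective_iff_map_eq_zero r).2 fun n hn => eq_zero_of_forall_tmul (fun k => B (e k)) hcov n fun k =>
    (hr k).1 (by rw [LinearMap.lTensor_tmul, hn, TensorProduct.tmul_zero, map_zero]), ?_⟩
  rw [← LinearMap.range_eq_top, eq_top_iff]
  intro m _
  rw [← Submodule.Quotient.mk_eq_zero (LinearMap.range r)]
  refine eq_zero_of_forall_tmul (fun k => B (e k)) hcov _ fun k => ?_
  obtain ⟨z, hz⟩ := (hr k).2 ((1 : B (e k)) ⊗ₜ[A] m)
  have h2 := congrArg ((LinearMap.range r).mkQ.lTensor (B (e k))) hz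
  rw [← LinearMap.comp_apply, ← LinearMap.lTensor_comp, LinearMap.range_mkQ_comp, LinearMap.lTensor_zero,
    LinearMap.zero_apply, LinearMap.lTensor_tmul] at h2
  exact h2.symm

end Restrict

/-- If the structure map is bijective, `x ↦ 1 ⊗ x` is injective. -/
theorem one_tmul_injective {A B : Type u} [CommRing A] [CommRing B] [Algebra A B]
    (h : Function.Bijective (algebraMap A B)) {N : Type u} [AddCommGroup N] [Module A N] :
    Function.Injective fun x : N => (1 : B) ⊗ₜ[A] x := by
  let e : A ≃ₐ[A] B := AlgEquiv.ofBijective (Algebra.ofId A B) h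
  intro x y hxy
  have h2 := congrArg (TensorProduct.congr e.symm.toLinearEquiv (LinearEquiv.refl A N) ≪≫ₗ TensorProduct.lid A N) hxy
  simpa using h2

end Groth.Agent.QCohDesc
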