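import Groth.Agent.QCohDesc.Piece
import Groth.Agent.QCoh.Submod
import Groth.Agent.QCoh.Qcqs
import Groth.Agent.QCoh.ExtendFT
import Groth.Agent.CohPullLib.RelBC

/-!
# The module of a descent datum of quasi-coherent modules
-/

set_option autoImplicit false
set_option linter.style.haveILetI false
set_option backward.isDefEq.respectTransparency false
set_option backward.isDefEq.respectTransparency.types false
set_option maxHeartbeats 1000000

universe u

open CategoryTheory CategoryTheory.Limits AlgebraicGeometry TopologicalSpace Opposite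
open scoped TensorProduct

namespace Groth.Agent.QCohDesc

open Groth.Agent.QCoh Groth.Agent.RGLib.Lim8

variable {ι : Type u} {S : Scheme.{u}} {X : ι → Scheme.{u}} {f : ∀ i, X i ⟶ S}
  (D : Desc.modPF.{u}.DescentData f)

/-- The ambient module. -/
noncomputable def amb : S.Modules := ∏ᶜ fun i => (Scheme.Modules.pushforward (f i)).obj (Dm D i)

/-- A component of a section of the ambient module. -/
noncomputable def pr (i : ι) (U : S.Opens) : Γ(amb D, U) →+ Γ(Dm D i, f i ⁻¹ᵁ U) :=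
  ((Pi.π (fun i => (Scheme.Modules.pushforward (f i)).obj (Dm D i)) i).app U).hom

theorem pr_map (i : ι) {U U' : S.Opens} (h : U' ≤ U) (s : Γ(amb D, U)) :
    pr D i U' (rs (amb D) h s) = rs (Dm D i) ((f i).preimage_mono h) (pr D i U s) :=
  map_app_comm (Pi.π (fun i => (Scheme.Modules.pushforward (f i)).obj (Dm D i)) i) (homOfLE h) s

theorem pr_smul (i : ι) (U : S.Opens) (r : Γ(S, U)) (s : Γ(amb D, U)) :
    pr D i U (r • s) = (f i).app U r • pr D i U s :=
  Scheme.Modules.Hom.app_smul (Pi.π (fun i => (Scheme.Modules.pushforward (f i)).obj (Dm D i)) i) r s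

/-- The functor of sections. -/
noncomputable abbrev secF (U : S.Opens) : S.Modules ⥤ Type u :=
  Scheme.Modules.toPresheaf S ⋙ (evaluation _ _).obj (op U) ⋙ forget AddCommGrpCat.{u}

noncomputable def isLimitSec (U : S.Opens) :
    IsLimit ((secF U).mapCone (limit.cone (Discrete.functor fun i => (Scheme.Modules.pushforward (f i)).obj (Dm D i)))) :=
  isLimitOfPreserves (forget AddCommGrpCat.{u})
    (isLimitOfPreserves ((evaluation S.Opensᵒᵖ AddCommGrpCat.{u}).obj (op U))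
      (isLimitOfPreserves (Scheme.Modules.toPresheaf S) (limit.isLimit _)))

theorem amb_ext {U : S.Opens} {s t : Γ(amb D, U)} (h : ∀ i, pr D i U s = pr D i U t) : s = t := by
  refine (Types.isLimitEquivSections (isLimitSec D U)).injective (Subtype.ext (funext fun j => ?_))
  exact h j.as

theorem amb_exists (U : S.Opens) (x : ∀ i, Γ(Dm D i, f i ⁻¹ᵁ U)) :
    ∃ s : Γ(amb D, U), ∀ i, pr D i U s = x i := by
  refine ⟨(Types.isLimitEquivSections (isLimitSec D U)).symm ⟨fun j => x j.as, ?_⟩, fun i => ?_⟩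
  · rintro ⟨a⟩ ⟨b⟩ ⟨⟨h⟩⟩
    obtain rfl : a = b := h
    rfl
  · exact Types.isLimitEquivSections_symm_apply (isLimitSec D U) _ ⟨i⟩

/-- The sections whose components correspond under the descent datum. -/
noncomputable def sub : SubMod (amb D) where
  mem U :=
    { carrier := {s | ∀ i j, Cpt D (pr D i U s) (pr D j U s)}
      add_mem' := fun {s t} hs ht i j T q g₁ g₂ h₁ h₂ O l₁ l₂ => by
        rw [map_add, map_add, tau_add, pullSec_add, hs i j T q g₁ g₂ h₁ h₂ O l₁ l₂, ht i j T q g₁ g₂ h₁ h₂ O l₁ l₂]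
      zero_mem' := fun i j T q g₁ g₂ h₁ h₂ O l₁ l₂ => by
        rw [map_zero, map_zero, tau_zero]
        have h := pullSec_add g₂ (Dm D j) l₂ 0 0
        rw [add_zero, left_eq_add] at h
        exact h.symm
      smul_mem' := fun r s hs i j T q g₁ g₂ h₁ h₂ O l₁ l₂ => by
        rw [pr_smul, pr_smul, tau_smul, pullSec_smul, hs i j T q g₁ g₂ h₁ h₂ O l₁ l₂]
        congr 1
        subst h₁
        rw [Scheme.Hom.app_eq_appLE, Scheme.Hom.app_eq_appLE, ← ConcreteCategory.comp_apply,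
          ← ConcreteCategory.comp_apply, Scheme.Hom.appLE_comp_appLE, Scheme.Hom.appLE_comp_appLE]
        simp only [h₂] }
  map_mem {U U'} hU {s} hs i j := by
    rw [pr_map D i hU s, pr_map D j hU s]
    exact (hs i j).res D _ _
  of_locally U s h i j T q g₁ g₂ h₁ h₂ O l₁ l₂ := by
    rw [← sub_eq_zero]
    refine eq_zero_of_locally O _ fun t ht => ?_
    have htU : q t ∈ U := by
      rw [← h₁]
      exact l₁ ht
    obtain ⟨U', hU', htU', hs⟩ := h (q t) htU
    refine ⟨O ⊓ q ⁻¹ᵁ U', homOfLE inf_le_left, ⟨ht, htU'⟩, ?_⟩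
    have m₁ : O ⊓ q ⁻¹ᵁ U' ≤ g₁ ⁻¹ᵁ (f i ⁻¹ᵁ U') := fun z hz => by
      show (g₁ ≫ f i) z ∈ U'
      rw [h₁]
      exact hz.2
    have m₂ : O ⊓ q ⁻¹ᵁ U' ≤ g₂ ⁻¹ᵁ (f j ⁻¹ᵁ U') := fun z hz => by
      show (g₂ ≫ f j) z ∈ U'
      rw [h₂]
      exact hz.2
    have h' := hs i j T q g₁ g₂ h₁ h₂ (O ⊓ q ⁻¹ᵁ U') m₁ m₂
    rw [show pr D i U' ((amb D).presheaf.map (homOfLE hU').op s) = rs (Dm D i) ((f i).preimage_mono hU') (pr D i U s)
        from pr_map D i hU' s,
      show pr D j U' ((amb D).presheaf.map (homOfLE hU').op s) = rs (Dm D j) ((f j).preimage_mono hU') (pr D j U s)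
        from pr_map D j hU' s, tau_res] at h'
    rw [map_sub, sub_eq_zero, tau_map, pullSec_map, h',
      ← pullSec_res g₂ (Dm D j) ((f j).preimage_mono hU') le_rfl (inf_le_left.trans l₂) m₂ (pr D j U s)]
    exact QCoh.map_id' _ _

/-- The descended module. -/
noncomputable abbrev desc : S.Modules := (sub D).toModules

/-- A component of a section of the descended module. -/
noncomputable def cmpnt (i : ι) (U : S.Opens) : Γ(desc D, U) →+ Γ(Dm D i, f i ⁻¹ᵁ U) :=
  (pr D i U).comp ((sub D).ι.app U).hom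

theorem cmpnt_map (i : ι) {U U' : S.Opens} (h : U' ≤ U) (s : Γ(desc D, U)) :
    cmpnt D i U' (rs (desc D) h s) = rs (Dm D i) ((f i).preimage_mono h) (cmpnt D i U s) := by
  refine Eq.trans ?_ (pr_map D i h ((sub D).ι.app U s))
  exact congrArg (pr D i U') (map_app_comm (sub D).ι (homOfLE h) s)

theorem cmpnt_smul (i : ι) (U : S.Opens) (r : Γ(S, U)) (s : Γ(desc D, U)) :
    cmpnt D i U (r • s) = (f i).app U r • cmpnt D i U s := by
  refine Eq.trans ?_ (pr_smul D i U r ((sub D).ι.app U s))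
  exact congrArg (pr D i U) (Scheme.Modules.Hom.app_smul (sub D).ι r s)

theorem cpt_cmpnt {U : S.Opens} (s : Γ(desc D, U)) (i j : ι) : Cpt D (cmpnt D i U s) (cmpnt D j U s) :=
  (sub D).ι_app_mem U s i j

theorem desc_ext {U : S.Opens} {s t : Γ(desc D, U)} (h : ∀ i, cmpnt D i U s = cmpnt D i U t) : s = t :=
  (sub D).ι_app_injective U (amb_ext D h)

section Local

variable {V : S.Opens}

/-- The value of a section on a piece. -/
noncomputable def val (P : Piece f V) : Γ(desc D, V) →ₗ[Γ(S, V)] Γ(Dm D P.idx, P.W) where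
  toFun s := rs (Dm D P.idx) P.le (cmpnt D P.idx V s)
  map_add' s t := by rw [map_add]; exact map_add _ _ _
  map_smul' r s := by
    rw [cmpnt_smul, rs_smul, RingHom.id_apply]
    show rf (X P.idx) P.le ((f P.idx).app V r) • rs (Dm D P.idx) P.le (cmpnt D P.idx V s) =
      (f P.idx).appLE V P.W P.le r • rs (Dm D P.idx) P.le (cmpnt D P.idx V s)
    rfl

theorem cpt_val (s : Γ(desc D, V)) (P Q : Piece f V) : Cpt D (val D P s) (val D Q s) :=
  (cpt_cmpnt D s P.idx Q.idx).res D P.le Q.le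

variable (hV : IsAffineOpen V) (hq : ∀ i, Coh.IsQCoh (Dm D i)) (hflat : ∀ i, Flat (f i))
  {κ : Type u} [Finite κ] (P : κ → Piece f V) (hsurj : ∀ y ∈ V, ∃ k, ∃ w ∈ (P k).W, f (P k).idx w = y)

/-- The rings of a family of pieces. -/
abbrev Bk (k : κ) : Type u := Γ(X (P k).idx, (P k).W)

/-- The modules of a family of pieces. -/
abbrev Mk (k : κ) : Type u := Γ(Dm D (P k).idx, (P k).W)

/-- The descent datum of a family of pieces. -/
noncomputable abbrev thetaK (a b : κ) : Mk D P a →ₗ[Bk P a] Bk P a ⊗[Γ(S, V)] Mk D P b :=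
  theta D hV hq (P a) (P b)

omit [Finite κ] in
include hV hflat in
theorem flat_pieces (k : κ) : Module.Flat Γ(S, V) (Bk P k) := flat_piece hV hflat (P k)

omit [Finite κ] in
include hV hsurj in
theorem cover_spec (p : PrimeSpectrum Γ(S, V)) :
    ∃ (k : κ) (Q : PrimeSpectrum (Bk P k)), PrimeSpectrum.comap (algebraMap Γ(S, V) (Bk P k)) Q = p := by
  obtain ⟨y, hy, rfl⟩ := QCoh.exists_point hV p
  obtain ⟨k, w, hw, rfl⟩ := hsurj y hy
  refine ⟨k, (P k).aff.primeIdealOf ⟨w, hw⟩, PrimeSpectrum.ext (Ideal.ext fun r => ?_)⟩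
  show (f (P k).idx).appLE V (P k).W (P k).le r ∈ ((P k).aff.primeIdealOf ⟨w, hw⟩).asIdeal ↔ _
  rw [← not_iff_not, ← QCoh.mem_basicOpen_iff_notMem (P k).aff hw, Scheme.basicOpen_appLE,
    ← QCoh.mem_basicOpen_iff_notMem hV hy]
  exact ⟨fun h => h.2, fun h => ⟨hw, h⟩⟩

omit [Finite κ] in
theorem mem_eqz_iff (m : ∀ k, Mk D P k) :
    m ∈ eqz (Bk P) (Mk D P) (thetaK D hV hq P) ↔ ∀ a b, Cpt D (m a) (m b) :=
  forall_congr' fun a => forall_congr' fun b => theta_eq_iff D hV hq (P a) (P b) (m a) (m b)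

include hV hq hflat hsurj

/-- A compatible family extends uniquely to more pieces. -/
theorem existsUnique_extend {κ' : Type u} [Finite κ'] (P' : κ' → Piece f V) (m : ∀ k, Mk D P k)
    (hm : ∀ a b, Cpt D (m a) (m b)) :
    ∃! v : ∀ k, Mk D P' k, (∀ a b, Cpt D (v a) (v b)) ∧ ∀ a b, Cpt D (m a) (v b) ∧ Cpt D (v b) (m a) := by
  let PP : κ ⊕ κ' → Piece f V := Sum.elim P P'
  haveI : ∀ k, Module.Flat Γ(S, V) (Bk PP k) := fun k => flat_pieces hV hflat PP k
  have hb := bijective_eqzRestrict (A := Γ(S, V)) (Sum.inl : κ → κ ⊕ κ') (Bk PP) (Mk D PP) (thetaK D hV hq PP)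
    (fun a x => theta_counit D hV hq (PP a) x) (fun a b c x => theta_cocycle D hV hq (PP a) (PP b) (PP c) x)
    (cover_spec hV P hsurj)
  obtain ⟨n, hn⟩ := hb.2 ⟨m, (mem_eqz_iff D hV hq P m).2 hm⟩
  have hn' : ∀ a, n.1 (Sum.inl a) = m a := fun a => congrFun (congrArg Subtype.val hn) a
  have hc := (mem_eqz_iff D hV hq PP n.1).1 n.2
  refine ⟨fun k => n.1 (Sum.inr k), ⟨fun a b => hc (Sum.inr a) (Sum.inr b), fun a b => ?_⟩, ?_⟩
  · rw [← hn' a]
    exact ⟨hc (Sum.inl a) (Sum.inr b), hc (Sum.inr b) (Sum.inl a)⟩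
  · rintro v ⟨hv, hvm⟩
    let n' : eqz (Bk PP) (Mk D PP) (thetaK D hV hq PP) := ⟨fun
      | Sum.inl a => m a
      | Sum.inr b => v b, (mem_eqz_iff D hV hq PP _).2 fun
      | Sum.inl a, Sum.inl b => hm a b
      | Sum.inl a, Sum.inr b => (hvm a b).1
      | Sum.inr a, Sum.inl b => (hvm b a).2
      | Sum.inr a, Sum.inr b => hv a b⟩
    have h : n' = n := hb.1 (Subtype.ext (funext fun a => (hn' a).symm))
    funext k
    exact congrFun (congrArg Subtype.val h) (Sum.inr k)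

/-- A section is determined by its values on a covering family of pieces. -/
theorem val_ext {s t : Γ(desc D, V)} (h : ∀ k, val D (P k) s = val D (P k) t) : s = t := by
  refine desc_ext D fun i => ?_
  rw [← sub_eq_zero]
  refine eq_zero_of_locally _ _ fun x hx => ?_
  obtain ⟨W, hW, hxW, hWV⟩ := exists_isAffineOpen_mem_and_subset (x := x) (U := f i ⁻¹ᵁ V) hx
  let Q : PUnit.{u + 1} → Piece f V := fun _ => ⟨i, W, hW, hWV⟩
  obtain ⟨v, -, huniq⟩ := existsUnique_extend D hV hq hflat P hsurj Q (fun k => val D (P k) s)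
    fun a b => cpt_val D s _ _
  refine ⟨W, homOfLE hWV, hxW, ?_⟩
  rw [map_sub, sub_eq_zero]
  have h1 := huniq (fun k => val D (Q k) s)
    ⟨fun a b => cpt_val D s _ _, fun a b => ⟨cpt_val D s _ _, cpt_val D s _ _⟩⟩
  have h2 := huniq (fun k => val D (Q k) t) ⟨fun a b => cpt_val D t _ _, fun a b => by
    rw [h a]
    exact ⟨cpt_val D t _ _, cpt_val D t _ _⟩⟩
  exact congrFun (h1.trans h2.symm) PUnit.unit

/-- Every compatible family on a covering family of pieces comes from a section. -/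
theorem val_exists (m : ∀ k, Mk D P k) (hm : ∀ a b, Cpt D (m a) (m b)) :
    ∃ s : Γ(desc D, V), ∀ k, val D (P k) s = m k := by
  classical
  choose v hv huv using fun Q : Piece f V =>
    existsUnique_extend D hV hq hflat P hsurj (fun _ : PUnit.{u + 1} => Q) m hm
  let w : ∀ Q : Piece f V, Γ(Dm D Q.idx, Q.W) := fun Q => v Q PUnit.unit
  have hmw : ∀ k Q, Cpt D (m k) (w Q) ∧ Cpt D (w Q) (m k) := fun k Q => (hv Q).2 k PUnit.unit
  have hw : ∀ Q Q', Cpt D (w Q) (w Q') := fun Q Q' => by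
    let QQ : ULift.{u} Bool → Piece f V := fun b => cond b.down Q Q'
    obtain ⟨z, ⟨hz, hzm⟩, -⟩ := existsUnique_extend D hV hq hflat P hsurj QQ m hm
    have e : ∀ b, z b = w (QQ b) := fun b =>
      congrFun (huv (QQ b) (fun _ => z b) ⟨fun _ _ => hz b b, fun a _ => hzm a b⟩) PUnit.unit
    have h := hz ⟨true⟩ ⟨false⟩
    rw [e, e] at h
    exact h
  have hres : ∀ (Q : Piece f V) (W' : (X Q.idx).Opens) (hW' : IsAffineOpen W') (h : W' ≤ Q.W),
      rs (Dm D Q.idx) h (w Q) = w ⟨Q.idx, W', hW', h.trans Q.le⟩ := fun Q W' hW' h =>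
    congrFun (huv ⟨Q.idx, W', hW', h.trans Q.le⟩ (fun _ => rs (Dm D Q.idx) h (w Q))
      ⟨fun _ _ => (hw Q Q).res D h h, fun a _ => by
        have h1 := (hmw a Q).1.res D (le_refl _) h
        have h2 := (hmw a Q).2.res D h (le_refl _)
        rw [QCoh.map_id' (homOfLE (le_refl _)) (m a)] at h1 h2
        exact ⟨h1, h2⟩⟩) PUnit.unit
  -- glue the values
  choose x hx using fun i => (TopCat.Sheaf.existsUnique_gluing' ⟨(Dm D i).presheaf, (Dm D i).isSheaf⟩
    (fun W : {W : (X i).Opens // IsAffineOpen W ∧ W ≤ f i ⁻¹ᵁ V} => W.1) (f i ⁻¹ᵁ V)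
    (fun W => homOfLE W.2.2)
    (fun p hp => let ⟨W, hW, hpW, hWV⟩ := exists_isAffineOpen_mem_and_subset (x := p) (U := f i ⁻¹ᵁ V) hp
      Opens.mem_iSup.2 ⟨⟨W, hW, hWV⟩, hpW⟩)
    (fun W => w ⟨i, W.1, W.2.1, W.2.2⟩) fun W W' => by
      refine sub_eq_zero.1 (eq_zero_of_locally (M := Dm D i) _ _ fun p hp => ?_)
      obtain ⟨W'', hW'', hpW'', hle⟩ := exists_isAffineOpen_mem_and_subset (x := p) (U := W.1 ⊓ W'.1) hp
      refine ⟨W'', homOfLE hle, hpW'', ?_⟩
      rw [map_sub, sub_eq_zero]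
      refine (rs_rs (inf_le_left (a := W.1) (b := W'.1)) hle _).trans
        (Eq.trans ?_ (rs_rs (inf_le_right (a := W.1) (b := W'.1)) hle _).symm)
      rw [hres ⟨i, W.1, W.2.1, W.2.2⟩ W'' hW'', hres ⟨i, W'.1, W'.2.1, W'.2.2⟩ W'' hW'']).exists
  obtain ⟨s, hs⟩ := amb_exists D V x
  have hmem : s ∈ (sub D).mem V := fun i j T q g₁ g₂ h₁ h₂ O l₁ l₂ => by
    rw [hs, hs, ← sub_eq_zero]
    refine eq_zero_of_locally O _ fun t ht => ?_
    obtain ⟨W, hW, htW, hWV⟩ := exists_isAffineOpen_mem_and_subset (x := g₁ t) (U := f i ⁻¹ᵁ V) (l₁ ht)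
    obtain ⟨W', hW', htW', hWV'⟩ := exists_isAffineOpen_mem_and_subset (x := g₂ t) (U := f j ⁻¹ᵁ V) (l₂ ht)
    let O' := O ⊓ (g₁ ⁻¹ᵁ W ⊓ g₂ ⁻¹ᵁ W')
    refine ⟨O', homOfLE inf_le_left, ⟨ht, htW, htW'⟩, ?_⟩
    have h := hw ⟨i, W, hW, hWV⟩ ⟨j, W', hW', hWV'⟩ T q g₁ g₂ h₁ h₂ O'
      (inf_le_right.trans inf_le_left) (inf_le_right.trans inf_le_right)
    rw [← hx i ⟨W, hW, hWV⟩, ← hx j ⟨W', hW', hWV'⟩] at h
    rw [map_sub, sub_eq_zero, tau_map, pullSec_map]
    refine Eq.trans (tau_res D q g₁ g₂ h₁ h₂ hWV _ (x i)).symm (h.trans ?_)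
    refine Eq.trans ?_ (QCoh.map_id' (homOfLE (le_refl O')) (pullSec g₂ (Dm D j) (inf_le_left.trans l₂) (x j)))
    exact (pullSec_res g₂ (Dm D j) hWV' le_rfl (inf_le_left.trans l₂) _ (x j)).symm
  obtain ⟨y, hy⟩ := (sub D).exists_app_eq hmem
  refine ⟨y, fun k => ?_⟩
  have h := hx (P k).idx ⟨(P k).W, (P k).aff, (P k).le⟩
  have e : v (P k) = fun _ => m k := (huv (P k) (fun _ => m k) ⟨fun _ _ => hm k k, fun a _ => ⟨hm a k, hm k a⟩⟩).symm
  show rs (Dm D (P k).idx) (P k).le (pr D (P k).idx V ((sub D).ι.app V y)) = m k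
  rw [hy, hs]
  exact h.trans (congrFun e PUnit.unit)

end Local

end Groth.Agent.QCohDesc
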