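import Groth.Agent.QCohDesc.Eff

/-!
# Descent data of quasi-coherent modules along fpqc coverings are effective
-/

set_option autoImplicit false
set_option linter.style.haveILetI false
set_option backward.isDefEq.respectTransparency false
set_option backward.isDefEq.respectTransparency.types false
set_option maxHeartbeats 1000000

universe u

open CategoryTheory CategoryTheory.Limits AlgebraicGeometry TopologicalSpace Opposite
open scoped TensorProduct

namespace Groth.Agent.QCohDesc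

open Groth.Agent.QCoh Groth.Agent.RGLib.Lim8

variable {ι : Type u} {S : Scheme.{u}} {X : ι → Scheme.{u}} {f : ∀ i, X i ⟶ S}
  (D : Desc.modPF.{u}.DescentData f)

theorem val_rs {V V' : S.Opens} (hle : V' ≤ V) (P : Piece f V) {W' : (X P.idx).Opens} (hW' : IsAffineOpen W')
    (hWW : W' ≤ P.W) (hWV : W' ≤ f P.idx ⁻¹ᵁ V') (s : Γ(desc D, V)) :
    val D ⟨P.idx, W', hW', hWV⟩ (rs (desc D) hle s) = rs (Dm D P.idx) hWW (val D P s) := by
  show rs (Dm D P.idx) hWV (cmpnt D P.idx V' (rs (desc D) hle s)) =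
    rs (Dm D P.idx) hWW (rs (Dm D P.idx) P.le (cmpnt D P.idx V s))
  rw [cmpnt_map, rs_rs, rs_rs]

/-- The part of a piece over a basic open. -/
noncomputable def shrink {V : S.Opens} (P : Piece f V) (r : Γ(S, V)) : Piece f (S.basicOpen r) where
  idx := P.idx
  W := (X P.idx).basicOpen ((f P.idx).appLE V P.W P.le r)
  aff := P.aff.basicOpen _
  le := by
    rw [Scheme.basicOpen_appLE]
    exact inf_le_right

omit D in
theorem exists_pieces (hf : Presieve.ofArrows X f ∈ Scheme.fpqcPrecoverage S) {V : S.Opens} (hV : IsAffineOpen V) :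
    ∃ (κ : Type u) (_ : Finite κ) (P : κ → Piece f V), ∀ y ∈ V, ∃ k, ∃ w ∈ (P k).W, f (P k).idx w = y :=
  let ⟨κ, hκ, a, W, hW, hle, hsurj⟩ := exists_family hf hV
  ⟨κ, hκ, fun k => ⟨a k, W k, hW k, hle k⟩, hsurj⟩

variable (hf : Presieve.ofArrows X f ∈ Scheme.fpqcPrecoverage S) (hq : ∀ i, Coh.IsQCoh (Dm D i))

include hf hq

theorem exists_pow_smul_eq_zero_desc {V : S.Opens} (hV : IsAffineOpen V) (r : Γ(S, V)) (t : Γ(desc D, V))
    (ht : (desc D).presheaf.map (homOfLE (S.basicOpen_le r)).op t = 0) : ∃ n : ℕ, r ^ n • t = 0 := by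
  obtain ⟨κ, _, P, hsurj⟩ := exists_pieces hf hV
  haveI := Fintype.ofFinite κ
  have hk : ∀ k, ∃ n : ℕ, (f (P k).idx).appLE V (P k).W (P k).le r ^ n • val D (P k) t = 0 := fun k => by
    refine QCoh.exists_pow_smul_eq_zero (hq _) (P k).aff _ _ ?_
    have hWV : (X (P k).idx).basicOpen ((f (P k).idx).appLE V (P k).W (P k).le r) ≤ f (P k).idx ⁻¹ᵁ S.basicOpen r := by
      rw [Scheme.basicOpen_appLE]
      exact inf_le_right
    refine (val_rs D (S.basicOpen_le r) (P k) ((P k).aff.basicOpen _) ((X (P k).idx).basicOpen_le _) hWV t).symm.trans ?_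
    rw [show rs (desc D) (S.basicOpen_le r) t = 0 from ht, map_zero]
  choose n hn using hk
  refine ⟨∑ k, n k, val_ext D hV hq (flat_of_mem hf) P hsurj fun k => ?_⟩
  rw [map_zero, map_smul]
  show (f (P k).idx).appLE V (P k).W (P k).le (r ^ ∑ k, n k) • val D (P k) t = 0
  obtain ⟨c, hc⟩ := Nat.exists_eq_add_of_le (Finset.single_le_sum (fun j _ => Nat.zero_le (n j)) (Finset.mem_univ k))
  rw [hc, map_pow, add_comm, pow_add, mul_smul, hn k, smul_zero]

theorem exists_pow_smul_eq_map_desc {V : S.Opens} (hV : IsAffineOpen V) (r : Γ(S, V))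
    (s : Γ(desc D, S.basicOpen r)) :
    ∃ (n : ℕ) (t : Γ(desc D, V)), (desc D).presheaf.map (homOfLE (S.basicOpen_le r)).op t =
      S.presheaf.map (homOfLE (S.basicOpen_le r)).op r ^ n • s := by
  obtain ⟨κ, _, P, hsurj⟩ := exists_pieces hf hV
  haveI := Fintype.ofFinite κ
  let rk : ∀ k, Γ(X (P k).idx, (P k).W) := fun k => (f (P k).idx).appLE V ((P k).W) (P k).le r
  let rD : Γ(S, S.basicOpen r) := rf S (S.basicOpen_le r) r
  have hWV : ∀ k, (X (P k).idx).basicOpen (rk k) ≤ f (P k).idx ⁻¹ᵁ S.basicOpen r := fun k => by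
    rw [Scheme.basicOpen_appLE]
    exact inf_le_right
  let P' : κ → Piece f (S.basicOpen r) := fun k => shrink (P k) r
  have hsurj' : ∀ y ∈ S.basicOpen r, ∃ k, ∃ w ∈ (P' k).W, f (P' k).idx w = y := fun y hy => by
    obtain ⟨k, w, hw, rfl⟩ := hsurj y (S.basicOpen_le r hy)
    refine ⟨k, w, ?_, rfl⟩
    show w ∈ (X (P k).idx).basicOpen (rk k)
    rw [Scheme.basicOpen_appLE]
    exact ⟨hw, hy⟩
  let v' : ∀ k, Γ(desc D, S.basicOpen r) → Γ(Dm D (P k).idx, (X (P k).idx).basicOpen (rk k)) :=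
    fun k z => val D (P' k) z
  have hsm : ∀ k (m : ℕ) (z : Γ(desc D, S.basicOpen r)), v' k (rD ^ m • z) =
      rf (X (P k).idx) ((X (P k).idx).basicOpen_le (rk k)) (rk k) ^ m • v' k z := fun k m z => by
    show val D (P' k) (rD ^ m • z) = _
    rw [map_smul]
    show (f (P k).idx).appLE (S.basicOpen r) _ (hWV k) (rD ^ m) • v' k z = _
    rw [map_pow]
    congr 2
    simp only [rD, rk, rf, ← ConcreteCategory.comp_apply, Scheme.Hom.map_appLE, Scheme.Hom.appLE_map]
  have hk : ∀ k, ∃ (n : ℕ) (t : Γ(Dm D (P k).idx, (P k).W)), rs (Dm D (P k).idx) ((X (P k).idx).basicOpen_le (rk k)) t =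
      rf (X (P k).idx) ((X (P k).idx).basicOpen_le (rk k)) (rk k) ^ n • v' k s :=
    fun k => QCoh.exists_pow_smul_eq_map (hq _) (P k).aff (rk k) (v' k s)
  choose n t0 ht0 using hk
  let N := ∑ k, n k
  let t : ∀ k, Γ(Dm D (P k).idx, (P k).W) := fun k => rk k ^ (N - n k) • t0 k
  have ht : ∀ k, rs (Dm D (P k).idx) ((X (P k).idx).basicOpen_le (rk k)) (t k) = v' k (rD ^ N • s) := fun k => by
    rw [hsm, rs_smul, ht0, smul_smul]
    congr 1
    simp only [rf, map_pow]
    rw [← pow_add, Nat.sub_add_cancel (Finset.single_le_sum (fun j _ => Nat.zero_le (n j)) (Finset.mem_univ k))]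
  -- powers of `r` on the products
  have hd : ∀ b c, ∃ p : ℕ, (gB Γ(X (P b).idx, (P b).W) (P c)).appLE ((P c).W) ⊤ (top_le_gB _ (P c)) (rk c) ^ p •
      (tau2 D hV (P b) (P c) (t b) -
        pullSec (gB Γ(X (P b).idx, (P b).W) (P c)) (Dm D (P c).idx) (top_le_gB _ (P c)) (t c)) = 0 := fun b c => by
    refine QCoh.exists_pow_smul_eq_zero (isQCoh_pullback _ (hq _)) (isAffineOpen_top _) _ _ ?_
    let O := (Spec (CB Γ(X (P b).idx, (P b).W) (P c))).basicOpen
      ((gB Γ(X (P b).idx, (P b).W) (P c)).appLE ((P c).W) ⊤ (top_le_gB _ (P c)) (rk c))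
    have mc : O ≤ gB Γ(X (P b).idx, (P b).W) (P c) ⁻¹ᵁ (X (P c).idx).basicOpen (rk c) :=
      (Scheme.basicOpen_appLE _ _ _ _ _).le.trans inf_le_right
    have mb : O ≤ gL (P b) (P c) ⁻¹ᵁ (X (P b).idx).basicOpen (rk b) := by
      refine le_trans (le_of_eq ?_) ((Scheme.basicOpen_appLE (gL (P b) (P c)) ⊤ ((P b).W)
        (top_le_gL (P b) (P c)) (rk b)).le.trans inf_le_right)
      refine congrArg (Spec (CB Γ(X (P b).idx, (P b).W) (P c))).basicOpen ?_
      simp only [rk, ← ConcreteCategory.comp_apply, Scheme.Hom.appLE_comp_appLE]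
      simp only [gL_comp hV (P b) (P c)]
    rw [map_sub, sub_eq_zero]
    show rs _ (Scheme.basicOpen_le _ _) _ = rs _ (Scheme.basicOpen_le _ _) _
    refine (tau_map D _ _ _ _ _ (Scheme.basicOpen_le _ _) (top_le_gL (P b) (P c)) (t b)).trans
      (Eq.trans ?_ (pullSec_map _ (Dm D (P c).idx) (Scheme.basicOpen_le _ _) (top_le_gB _ (P c)) (t c)).symm)
    refine (tau_res D _ _ _ _ _ ((X (P b).idx).basicOpen_le (rk b)) mb (t b)).symm.trans ?_
    refine Eq.trans ?_ ((pullSec_res (gB Γ(X (P b).idx, (P b).W) (P c)) (Dm D (P c).idx) ((X (P c).idx).basicOpen_le (rk c))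
      (le_refl O) (mc.trans ((gB _ (P c)).preimage_mono ((X (P c).idx).basicOpen_le _))) mc (t c)).symm.trans
        (QCoh.map_id' _ _))
    show tau D _ _ _ _ _ mb (rs (Dm D (P b).idx) _ (t b)) = pullSec _ _ mc (rs (Dm D (P c).idx) _ (t c))
    rw [ht, ht]
    exact cpt_val D (rD ^ N • s) (P' b) (P' c) _ _ _ _ _ _ _ mb mc
  choose p hp using hd
  let Q : ℕ := ∑ bc : κ × κ, p bc.1 bc.2
  have hc : ∀ b c, Cpt D (rk b ^ Q • t b : Γ(Dm D (P b).idx, (P b).W))
      (rk c ^ Q • t c : Γ(Dm D (P c).idx, (P c).W)) := fun b c => by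
    refine (theta_eq_iff D hV hq (P b) (P c) _ _).1 ((bijective_Phi D _ (P c) (hq _)).1 ?_)
    rw [Phi_theta, Phi_one_tmul]
    show tau D _ _ _ _ _ (top_le_gL (P b) (P c)) (rk b ^ Q • t b) = _
    rw [tau_smul, pullSec_smul, map_pow, map_pow,
      show (gL (P b) (P c)).appLE ((P b).W) ⊤ (top_le_gL (P b) (P c)) (rk b) =
          (gB Γ(X (P b).idx, (P b).W) (P c)).appLE ((P c).W) ⊤ (top_le_gB _ (P c)) (rk c) by
        simp only [rk, ← ConcreteCategory.comp_apply, Scheme.Hom.appLE_comp_appLE]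
        simp only [gL_comp hV (P b) (P c)],
      ← sub_eq_zero, ← smul_sub]
    obtain ⟨e, he⟩ := Nat.exists_eq_add_of_le
      (Finset.single_le_sum (fun j _ => Nat.zero_le (p j.1 j.2)) (Finset.mem_univ (b, c)))
    rw [show Q = e + p b c from he.trans (add_comm _ _), pow_add, mul_smul]
    exact (congrArg (_ • ·) (hp b c)).trans (smul_zero _)
  obtain ⟨y, hy⟩ := val_exists D hV hq (flat_of_mem hf) P hsurj (fun k => rk k ^ Q • t k) hc
  refine ⟨Q + N, y, val_ext D (hV.basicOpen r) hq (flat_of_mem hf) P' hsurj' fun k => ?_⟩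
  refine (val_rs D (S.basicOpen_le r) (P k) ((P k).aff.basicOpen _) ((X (P k).idx).basicOpen_le _) (hWV k) y).trans ?_
  rw [hy, rs_smul, ht, pow_add, mul_smul]
  show _ = v' k (rD ^ Q • rD ^ N • s)
  rw [hsm k Q]
  congr 1
  simp only [rf, map_pow]

/-- The descended module is quasi-coherent. -/
theorem isQCoh_desc : Coh.IsQCoh (desc D) :=
  isQCoh_of_sections (fun _ hU r s => exists_pow_smul_eq_map_desc D hf hq hU r s)
    fun _ hU r t ht => exists_pow_smul_eq_zero_desc D hf hq hU r t ht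

omit hf hq

/-- The comparison map. -/
noncomputable def counitMap (i : ι) : (Scheme.Modules.pullback (f i)).obj (desc D) ⟶ Dm D i :=
  ((Scheme.Modules.pullbackPushforwardAdjunction (f i)).homEquiv _ _).symm
    ((sub D).ι ≫ Pi.π (fun i => (Scheme.Modules.pushforward (f i)).obj (Dm D i)) i)

theorem counitMap_pullSec (i : ι) {U : S.Opens} {W : (X i).Opens} (h : W ≤ f i ⁻¹ᵁ U) (s : Γ(desc D, U)) :
    (counitMap D i).app W (pullSec (f i) (desc D) h s) = rs (Dm D i) h (cmpnt D i U s) := by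
  rw [← pullSec_map (f i) (desc D) h le_rfl s, map_app_comm]
  exact congrArg (rs (Dm D i) h) (adjoint_pullSec (f i) _ s)

include hf hq

theorem bijective_counitMap {V : S.Opens} (hV : IsAffineOpen V) (Q : Piece f V) :
    Function.Bijective ((counitMap D Q.idx).app Q.W) := by
  obtain ⟨κ, _, P0, hsurj⟩ := exists_pieces hf hV
  let P : κ ⊕ PUnit.{u + 1} → Piece f V := Sum.elim P0 fun _ => Q
  let j : κ ⊕ PUnit.{u + 1} := Sum.inr PUnit.unit
  have hsurjP : ∀ y ∈ V, ∃ k, ∃ w ∈ (P k).W, f (P k).idx w = y := fun y hy =>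
    let ⟨k, hk⟩ := hsurj y hy; ⟨Sum.inl k, hk⟩
  have hflat := flat_of_mem hf
  haveI : ∀ k, Module.Flat Γ(S, V) (Bk P k) := fun k => flat_pieces hV hflat P k
  let r : Γ(desc D, V) →ₗ[Γ(S, V)] eqz (Bk P) (Mk D P) (thetaK D hV hq P) :=
    LinearMap.codRestrict _ (LinearMap.pi fun k => val D (P k)) fun s =>
      (mem_eqz_iff D hV hq P _).2 fun b c => cpt_val D s _ _
  have hr : Function.Bijective r := by
    refine ⟨fun s t h => val_ext D hV hq hflat P hsurjP fun k => congrFun (congrArg Subtype.val h) k, fun m => ?_⟩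
    obtain ⟨s, hs⟩ := val_exists D hV hq hflat P hsurjP m.1 ((mem_eqz_iff D hV hq P _).1 m.2)
    exact ⟨s, Subtype.ext (funext hs)⟩
  have hb := bijective_beta (A := Γ(S, V)) (Bk P) (Mk D P) (thetaK D hV hq P)
    (fun a x => theta_counit D hV hq (P a) x) (fun a b c x => theta_cocycle D hV hq (P a) (P b) (P c) x) j
  let R := Γ(X Q.idx, Q.W)
  letI : Module Γ(S, V) Γ((Scheme.Modules.pullback (f Q.idx)).obj (desc D), Q.W) :=
    Module.compHom _ ((f Q.idx).appLE V Q.W Q.le).hom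
  haveI : IsScalarTower Γ(S, V) R Γ((Scheme.Modules.pullback (f Q.idx)).obj (desc D), Q.W) :=
    .of_algebraMap_smul fun _ _ => rfl
  let L : Γ(desc D, V) →ₗ[Γ(S, V)] Γ((Scheme.Modules.pullback (f Q.idx)).obj (desc D), Q.W) :=
    { toFun := pullSec (f Q.idx) (desc D) Q.le
      map_add' := pullSec_add (f Q.idx) (desc D) Q.le
      map_smul' := pullSec_smul (f Q.idx) (desc D) Q.le }
  have hB : IsBaseChange R L :=
    isBaseChange_pullback hV (f Q.idx) Q.aff (isQCoh_desc D hf hq) Q.le (fun _ => rfl) L fun _ => rfl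
  have hcomp : ∀ z : R ⊗[Γ(S, V)] Γ(desc D, V), (counitMap D Q.idx).app Q.W (hB.equiv z) =
      beta (Bk P) (Mk D P) (thetaK D hV hq P) j (LinearMap.lTensor R r z) := fun z => by
    induction z using TensorProduct.induction_on with
    | zero => simp
    | add x y hx hy => simp only [map_add, hx, hy]
    | tmul b s =>
      rw [hB.equiv_tmul, Scheme.Modules.Hom.app_smul, LinearMap.lTensor_tmul, beta_tmul]
      exact congrArg (b • ·) (counitMap_pullSec D Q.idx Q.le s)
  have hr' : Function.Bijective (LinearMap.lTensor R r) := (LinearEquiv.ofBijective r hr).lTensor R |>.bijective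
  have : Function.Bijective ((counitMap D Q.idx).app Q.W ∘ hB.equiv) :=
    (congrArg Function.Bijective (funext hcomp)).mpr (hb.comp hr')
  exact (Function.Bijective.of_comp_iff _ hB.equiv.bijective).1 this

theorem isIso_counitMap (i : ι) : IsIso (counitMap D i) := by
  choose V hV hxV _ using fun x : X i => exists_isAffineOpen_mem_and_subset (x := f i x) (U := ⊤) trivial
  choose W hW hxW hWV using fun x : X i => exists_isAffineOpen_mem_and_subset (x := x) (U := f i ⁻¹ᵁ V x) (hxV x)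
  exact CohPullLib.isIso_of_bijective_cover (isQCoh_pullback (f i) (isQCoh_desc D hf hq)) (hq i) _ W hW
    (fun x => ⟨x, hxW x⟩) fun x => bijective_counitMap D hf hq (hV x) ⟨i, W x, hW x, hWV x⟩

/-- The descended module has the given descent datum. -/
theorem exists_iso : Nonempty ((Desc.modPF.{u}.toDescentData f).obj (desc D) ≅ D) := by
  haveI := fun i => isIso_counitMap D hf hq i
  refine ⟨Pseudofunctor.DescentData.isoMk (fun i => asIso (counitMap D i)) ?_⟩
  intro T q i j g₁ g₂ h₁ h₂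
  let C1 := cmpIso g₁ (f i) q h₁ (desc D)
  let C2 := cmpIso g₂ (f j) q h₂ (desc D)
  have key : C1.inv ≫ (Scheme.Modules.pullback g₁).map (counitMap D i) ≫ homD D q g₁ g₂ h₁ h₂ =
      C2.inv ≫ (Scheme.Modules.pullback g₂).map (counitMap D j) := by
    apply ((Scheme.Modules.pullbackPushforwardAdjunction q).homEquiv _ _).injective
    refine Scheme.Modules.hom_ext _ _ fun U => ?_
    ext s
    have hU₁ : q ⁻¹ᵁ U ≤ g₁ ⁻¹ᵁ (f i ⁻¹ᵁ U) := fun z hz => by
      show (g₁ ≫ f i) z ∈ U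
      rw [h₁]
      exact hz
    have hU₂ : q ⁻¹ᵁ U ≤ g₂ ⁻¹ᵁ (f j ⁻¹ᵁ U) := fun z hz => by
      show (g₂ ≫ f j) z ∈ U
      rw [h₂]
      exact hz
    have e1 : C1.inv.app (q ⁻¹ᵁ U) (pullSec q (desc D) le_rfl s) =
        pullSec g₁ _ hU₁ (pullSec (f i) (desc D) le_rfl s) := by
      rw [← cmp_pullSec g₁ (f i) q h₁ (desc D) le_rfl hU₁ le_rfl s]
      exact congrArg (fun ψ : (Scheme.Modules.pullback g₁).obj ((Scheme.Modules.pullback (f i)).obj (desc D)) ⟶
        (Scheme.Modules.pullback g₁).obj ((Scheme.Modules.pullback (f i)).obj (desc D)) =>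
          ψ.app (q ⁻¹ᵁ U) (pullSec g₁ _ hU₁ (pullSec (f i) (desc D) le_rfl s))) C1.hom_inv_id
    have e2 : C2.inv.app (q ⁻¹ᵁ U) (pullSec q (desc D) le_rfl s) =
        pullSec g₂ _ hU₂ (pullSec (f j) (desc D) le_rfl s) := by
      rw [← cmp_pullSec g₂ (f j) q h₂ (desc D) le_rfl hU₂ le_rfl s]
      exact congrArg (fun ψ : (Scheme.Modules.pullback g₂).obj ((Scheme.Modules.pullback (f j)).obj (desc D)) ⟶
        (Scheme.Modules.pullback g₂).obj ((Scheme.Modules.pullback (f j)).obj (desc D)) =>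
          ψ.app (q ⁻¹ᵁ U) (pullSec g₂ _ hU₂ (pullSec (f j) (desc D) le_rfl s))) C2.hom_inv_id
    have main : (homD D q g₁ g₂ h₁ h₂).app (q ⁻¹ᵁ U)
          (((Scheme.Modules.pullback g₁).map (counitMap D i)).app (q ⁻¹ᵁ U)
            (C1.inv.app (q ⁻¹ᵁ U) (pullSec q (desc D) le_rfl s))) =
        ((Scheme.Modules.pullback g₂).map (counitMap D j)).app (q ⁻¹ᵁ U)
          (C2.inv.app (q ⁻¹ᵁ U) (pullSec q (desc D) le_rfl s)) := by
      rw [e1, e2, pullSec_naturality, pullSec_naturality, counitMap_pullSec, counitMap_pullSec,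
        rs_self, rs_self]
      exact cpt_cmpnt D s i j T q g₁ g₂ h₁ h₂ _ hU₁ hU₂
    rw [Adjunction.homEquiv_unit, Adjunction.homEquiv_unit]
    have hp : pullSec q (desc D) (le_refl (q ⁻¹ᵁ U)) s =
        ((Scheme.Modules.pullbackPushforwardAdjunction q).unit.app (desc D)).app U s := QCoh.map_id' _ _
    rw [hp] at main
    exact main
  show (Scheme.Modules.pullback g₁).map (counitMap D i) ≫ homD D q g₁ g₂ h₁ h₂ =
    ((Desc.modPF.{u}.mapComp' (f i).op.toLoc g₁.op.toLoc q.op.toLoc (by rw [← h₁]; rfl)).inv.toNatTrans.app (desc D) ≫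
      (Desc.modPF.{u}.mapComp' (f j).op.toLoc g₂.op.toLoc q.op.toLoc (by rw [← h₂]; rfl)).hom.toNatTrans.app (desc D)) ≫
      (Scheme.Modules.pullback g₂).map (counitMap D j)
  rw [mapComp'_inv g₁ (f i) q h₁, mapComp'_hom g₂ (f j) q h₂]
  show _ = (C1.hom ≫ C2.inv) ≫ _
  rw [Category.assoc, ← key, Iso.hom_inv_id_assoc]

end Groth.Agent.QCohDesc
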