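import Groth.Agent.QCohDesc.Alg
import Groth.Agent.QCohDesc.Cmp
import Groth.Agent.RGLib.HomGlue
import Groth.Agent.HTopCov.Misc
import Mathlib.AlgebraicGeometry.Morphisms.Flat
import Mathlib.AlgebraicGeometry.Sites.Fpqc

/-!
# Morphisms of quasi-coherent modules descend along fpqc coverings
-/

set_option autoImplicit false
set_option linter.style.haveILetI false
set_option backward.isDefEq.respectTransparency false
set_option backward.isDefEq.respectTransparency.types false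
set_option maxHeartbeats 1000000

universe u

open CategoryTheory CategoryTheory.Limits AlgebraicGeometry TopologicalSpace Opposite
open scoped TensorProduct

namespace Groth.Agent.QCohDesc

open Groth.Agent.QCoh Groth.Agent.RGLib.Lim8

variable {ι : Type u} {S : Scheme.{u}} {X : ι → Scheme.{u}} {f : ∀ i, X i ⟶ S}

theorem flat_of_mem (hf : Presieve.ofArrows X f ∈ Scheme.fpqcPrecoverage S) (i : ι) : Flat (f i) :=
  ((HTopCov.fpqc_mem_iff _).1 hf).2.2 ⟨i⟩

/-- An affine open is covered by finitely many affine opens of the members of an fpqc covering. -/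
theorem exists_family (hf : Presieve.ofArrows X f ∈ Scheme.fpqcPrecoverage S) {V : S.Opens} (hV : IsAffineOpen V) :
    ∃ (κ : Type u) (_ : Finite κ) (a : κ → ι) (W : ∀ k, (X (a k)).Opens) (_ : ∀ k, IsAffineOpen (W k)),
      (∀ k, W k ≤ f (a k) ⁻¹ᵁ V) ∧ ∀ y ∈ V, ∃ k, ∃ w ∈ W k, f (a k) w = y := by
  let 𝒰 : PreZeroHypercover.{u} S := ⟨ι, X, f⟩
  haveI : QuasiCompactCover 𝒰 := Scheme.presieve₀_mem_qcPrecoverage_iff.mp ((HTopCov.fpqc_mem_iff _).1 hf).1
  obtain ⟨n, a, W, hW, heq⟩ := QuasiCompactCover.exists_isAffineOpen_of_isCompact 𝒰 hV.isCompact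
  refine ⟨ULift.{u} (Fin n), inferInstance, fun k => a k.down, fun k => W k.down, fun k => hW k.down,
    fun k w hw => heq.le (Set.mem_iUnion.2 ⟨k.down, w, hw, rfl⟩), fun y hy => ?_⟩
  obtain ⟨k, w, hw, rfl⟩ := Set.mem_iUnion.1 (heq.ge hy)
  exact ⟨⟨k⟩, w, hw, rfl⟩

section Fam

variable (hflat : ∀ i, Flat (f i)) {N : S.Modules} (hN : Coh.IsQCoh N) {V : S.Opens} (hV : IsAffineOpen V)
  {κ : Type u} [Finite κ] (a : κ → ι) (W : ∀ k, (X (a k)).Opens) (hW : ∀ k, IsAffineOpen (W k))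
  (hle : ∀ k, W k ≤ f (a k) ⁻¹ᵁ V) (hsurj : ∀ y ∈ V, ∃ k, ∃ w ∈ W k, f (a k) w = y)

include hflat hN hV hW hsurj

/-- Sections of pullbacks to a covering family of affines which agree on the products come from a section. -/
theorem existsUnique_section (z : ∀ k, Γ((Scheme.Modules.pullback (f (a k))).obj N, W k))
    (hz : ∀ (j k : κ) (T : Scheme.{u}) (q : T ⟶ S) (g₁ : T ⟶ X (a j)) (g₂ : T ⟶ X (a k))
      (h₁ : g₁ ≫ f (a j) = q) (h₂ : g₂ ≫ f (a k) = q) (O : T.Opens) (l₁ : O ≤ g₁ ⁻¹ᵁ W j) (l₂ : O ≤ g₂ ⁻¹ᵁ W k)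
      (_ : O ≤ q ⁻¹ᵁ V), cmp g₁ (f (a j)) q h₁ N l₁ (z j) = cmp g₂ (f (a k)) q h₂ N l₂ (z k)) :
    ∃! y : Γ(N, V), ∀ k, pullSec (f (a k)) N (hle k) y = z k := by
  classical
  let A := Γ(S, V)
  let B : κ → Type u := fun k => Γ(X (a k), W k)
  letI : ∀ k, CommRing (B k) := fun k => inferInstanceAs (CommRing Γ(X (a k), W k))
  letI : ∀ k, Algebra A (B k) := fun k => ((f (a k)).appLE V (W k) (hle k)).hom.toAlgebra
  haveI : ∀ k, Module.Flat A (B k) := fun k => haveI := hflat (a k); (f (a k)).flat_appLE hV (hW k) (hle k)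
  have hcov : ∀ p : PrimeSpectrum A, ∃ (k : κ) (P : PrimeSpectrum (B k)),
      PrimeSpectrum.comap (algebraMap A (B k)) P = p := fun p => by
    obtain ⟨y, hy, rfl⟩ := QCoh.exists_point hV p
    obtain ⟨k, w, hw, rfl⟩ := hsurj y hy
    refine ⟨k, (hW k).primeIdealOf ⟨w, hw⟩, PrimeSpectrum.ext (Ideal.ext fun r => ?_)⟩
    show (f (a k)).appLE V (W k) (hle k) r ∈ ((hW k).primeIdealOf ⟨w, hw⟩).asIdeal ↔ _
    rw [← not_iff_not, ← QCoh.mem_basicOpen_iff_notMem (hW k) hw, Scheme.basicOpen_appLE,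
      ← QCoh.mem_basicOpen_iff_notMem hV hy]
    exact ⟨fun h => h.2, fun h => ⟨hw, h⟩⟩
  let P : κ → Type u := fun k => Γ((Scheme.Modules.pullback (f (a k))).obj N, W k)
  letI : ∀ k, Module Γ(S, V) Γ((Scheme.Modules.pullback (f (a k))).obj N, W k) :=
    fun k => Module.compHom _ ((f (a k)).appLE V (W k) (hle k)).hom
  haveI : ∀ k, IsScalarTower A (B k) Γ((Scheme.Modules.pullback (f (a k))).obj N, W k) :=
    fun k => .of_algebraMap_smul fun _ _ => rfl
  let L : ∀ k, Γ(N, V) →ₗ[Γ(S, V)] Γ((Scheme.Modules.pullback (f (a k))).obj N, W k) := fun k =>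
    { toFun := pullSec (f (a k)) N (hle k)
      map_add' := pullSec_add (f (a k)) N (hle k)
      map_smul' := pullSec_smul (f (a k)) N (hle k) }
  have hb : ∀ k, IsBaseChange (B k) (L k) := fun k =>
    isBaseChange_pullback hV (f (a k)) (hW k) hN (hle k) (fun _ => rfl) (L k) fun _ => rfl
  let β : ∀ k, B k ⊗[A] Γ(N, V) ≃ₗ[B k] Γ((Scheme.Modules.pullback (f (a k))).obj N, W k) := fun k => (hb k).equiv
  have hβ1 : ∀ k (y : Γ(N, V)), β k ((1 : B k) ⊗ₜ[A] y) = pullSec (f (a k)) N (hle k) y := fun k y => by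
    rw [(hb k).equiv_tmul, one_smul]
    rfl
  have hcocycle : ∀ j k, (1 : B j) ⊗ₜ[A] (β k).symm (z k) =
      LinearMap.lTensor (B j) (TensorProduct.mk A (B k) Γ(N, V) 1) ((β j).symm (z j)) := by
    intro j k
    let C : CommRingCat.{u} := CommRingCat.of (B j ⊗[A] B k)
    let inl : Γ(X (a j), W j) ⟶ C := CommRingCat.ofHom (Algebra.TensorProduct.includeLeftRingHom : B j →+* B j ⊗[A] B k)
    let inr : Γ(X (a k), W k) ⟶ C :=
      CommRingCat.ofHom (Algebra.TensorProduct.includeRight : B k →ₐ[A] B j ⊗[A] B k).toRingHom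
    let g₁ : Spec C ⟶ X (a j) := Spec.map inl ≫ (hW j).fromSpec
    let g₂ : Spec C ⟶ X (a k) := Spec.map inr ≫ (hW k).fromSpec
    let q : Spec C ⟶ S := g₁ ≫ f (a j)
    have h₂ : g₂ ≫ f (a k) = q := by
      simp only [q, g₁, g₂, Category.assoc, ← IsAffineOpen.SpecMap_appLE_fromSpec (f (a k)) hV (hW k) (hle k),
        ← IsAffineOpen.SpecMap_appLE_fromSpec (f (a j)) hV (hW j) (hle j)]
      rw [← Spec.map_comp_assoc, ← Spec.map_comp_assoc]
      congr 2
      refine CommRingCat.hom_ext (RingHom.ext fun r => ?_)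
      exact (((Algebra.TensorProduct.includeRight : B k →ₐ[A] B j ⊗[A] B k).commutes r).trans
        ((Algebra.TensorProduct.includeLeft : B j →ₐ[A] B j ⊗[A] B k).commutes r).symm)
    have l₁ : (⊤ : (Spec C).Opens) ≤ g₁ ⁻¹ᵁ W j := fun t _ =>
      (hW j).range_fromSpec.le ⟨(Spec.map inl) t, rfl⟩
    have l₂ : (⊤ : (Spec C).Opens) ≤ g₂ ⁻¹ᵁ W k := fun t _ =>
      (hW k).range_fromSpec.le ⟨(Spec.map inr) t, rfl⟩
    have lq : (⊤ : (Spec C).Opens) ≤ q ⁻¹ᵁ V := fun t ht => hle j (l₁ ht)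
    have e₁ : g₁.appLE (W j) ⊤ l₁ = inl ≫ (Scheme.ΓSpecIso C).inv := appLE_specMap_fromSpec (hW j) inl l₁
    have e₂ : g₂.appLE (W k) ⊤ l₂ = inr ≫ (Scheme.ΓSpecIso C).inv := appLE_specMap_fromSpec (hW k) inr l₂
    letI : Algebra A Γ(Spec C, ⊤) := (q.appLE V ⊤ lq).hom.toAlgebra
    letI : Module Γ(S, V) Γ((Scheme.Modules.pullback q).obj N, ⊤) := Module.compHom _ (q.appLE V ⊤ lq).hom
    haveI : IsScalarTower Γ(S, V) Γ(Spec C, ⊤) Γ((Scheme.Modules.pullback q).obj N, ⊤) :=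
      .of_algebraMap_smul fun _ _ => rfl
    let Lq : Γ(N, V) →ₗ[Γ(S, V)] Γ((Scheme.Modules.pullback q).obj N, ⊤) :=
      { toFun := pullSec q N lq
        map_add' := pullSec_add q N lq
        map_smul' := pullSec_smul q N lq }
    have hq : IsBaseChange Γ(Spec C, ⊤) Lq :=
      isBaseChange_pullback hV q (isAffineOpen_top _) hN lq (fun _ => rfl) Lq fun _ => rfl
    have hcomm : ∀ r : A, (Scheme.ΓSpecIso C).inv (algebraMap A (B j ⊗[A] B k) r) = q.appLE V ⊤ lq r := fun r => by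
      have h : (f (a j)).appLE V (W j) (hle j) ≫ g₁.appLE (W j) ⊤ l₁ = q.appLE V ⊤ lq :=
        Scheme.Hom.appLE_comp_appLE _ _ _ _ _ _ _
      rw [← h, e₁]
      rfl
    let eA : (B j ⊗[A] B k) ≃ₐ[A] Γ(Spec C, ⊤) :=
      AlgEquiv.ofRingEquiv (f := (Scheme.ΓSpecIso C).symm.commRingCatIsoToRingEquiv) hcomm
    let Ψ : B j ⊗[A] (B k ⊗[A] Γ(N, V)) ≃ₗ[A] Γ((Scheme.Modules.pullback q).obj N, ⊤) :=
      (TensorProduct.assoc A (B j) (B k) Γ(N, V)).symm ≪≫ₗ
        TensorProduct.congr eA.toLinearEquiv (LinearEquiv.refl A Γ(N, V)) ≪≫ₗ hq.equiv.restrictScalars A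
    have hΨ : ∀ (b : B j) (c : B k) (n : Γ(N, V)), Ψ (b ⊗ₜ[A] (c ⊗ₜ[A] n)) =
        (show Γ(Spec C, ⊤) from (Scheme.ΓSpecIso C).inv (b ⊗ₜ[A] c)) • pullSec q N lq n := fun b c n => by
      simp only [Ψ, LinearEquiv.trans_apply, TensorProduct.assoc_symm_tmul, TensorProduct.congr_tmul,
        LinearEquiv.refl_apply, LinearEquiv.restrictScalars_apply]
      rw [hq.equiv_tmul]
      rfl
    have id₁ : ∀ x : B j ⊗[A] Γ(N, V), cmp g₁ (f (a j)) q rfl N l₁ (β j x) =
        Ψ (LinearMap.lTensor (B j) (TensorProduct.mk A (B k) Γ(N, V) 1) x) := fun x => by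
      induction x using TensorProduct.induction_on with
      | zero => rw [map_zero, cmp_zero, map_zero, map_zero]
      | add x y hx hy => rw [map_add, cmp_add, map_add, map_add, hx, hy]
      | tmul b n =>
        rw [(hb j).equiv_tmul, LinearMap.lTensor_tmul, TensorProduct.mk_apply, hΨ]
        refine (cmp_smul g₁ (f (a j)) q rfl N l₁ (show Γ(X (a j), W j) from b) _).trans ?_
        rw [e₁]
        exact congrArg _ (cmp_pullSec g₁ (f (a j)) q rfl N (hle j) l₁ lq n)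
    have id₂ : ∀ x : B k ⊗[A] Γ(N, V), cmp g₂ (f (a k)) q h₂ N l₂ (β k x) = Ψ ((1 : B j) ⊗ₜ[A] x) := fun x => by
      induction x using TensorProduct.induction_on with
      | zero => rw [map_zero, cmp_zero, TensorProduct.tmul_zero, map_zero]
      | add x y hx hy => rw [map_add, cmp_add, TensorProduct.tmul_add, map_add, hx, hy]
      | tmul c n =>
        rw [(hb k).equiv_tmul, hΨ]
        refine (cmp_smul g₂ (f (a k)) q h₂ N l₂ (show Γ(X (a k), W k) from c) _).trans ?_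
        rw [e₂]
        exact congrArg _ (cmp_pullSec g₂ (f (a k)) q h₂ N (hle k) l₂ lq n)
    apply Ψ.injective
    rw [← id₁, ← id₂, LinearEquiv.apply_symm_apply, LinearEquiv.apply_symm_apply]
    exact (hz j k (Spec C) q g₁ g₂ rfl h₂ ⊤ l₁ l₂ lq).symm
  obtain ⟨y, hy⟩ := exists_of_cocycle B hcov (fun k => (β k).symm (z k)) hcocycle
  refine ⟨y, fun k => ?_, fun y' hy' => ext_of_forall_tmul B hcov fun k => ?_⟩
  · rw [← hβ1, hy, LinearEquiv.apply_symm_apply]
  · apply (β k).injective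
    rw [hy, LinearEquiv.apply_symm_apply, hβ1, hy' k]

end Fam

variable {M N : S.Modules} (φ : (Desc.modPF.{u}.toDescentData f).obj M ⟶ (Desc.modPF.{u}.toDescentData f).obj N)

/-- The component of a morphism of canonical descent data. -/
noncomputable abbrev comp (i : ι) : (Scheme.Modules.pullback (f i)).obj M ⟶ (Scheme.Modules.pullback (f i)).obj N :=
  φ.hom i

/-- The section of `N` that a section of `M` is sent to. -/
def Good (V : S.Opens) (x : Γ(M, V)) (y : Γ(N, V)) : Prop :=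
  ∀ (i : ι) (W : (X i).Opens), IsAffineOpen W → ∀ h : W ≤ f i ⁻¹ᵁ V,
    pullSec (f i) N h y = (comp φ i).app W (pullSec (f i) M h x)

variable (hf : Presieve.ofArrows X f ∈ Scheme.fpqcPrecoverage S) (hN : Coh.IsQCoh N)

include hf hN

theorem existsUnique_good {V : S.Opens} (hV : IsAffineOpen V) (x : Γ(M, V)) : ∃! y, Good φ V x y := by
  obtain ⟨κ, _, a, W, hW, hle, hsurj⟩ := exists_family hf hV
  obtain ⟨y, hy, huniq⟩ := existsUnique_section (flat_of_mem hf) hN hV a W hW hle hsurj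
    (fun k => (comp φ (a k)).app (W k) (pullSec (f (a k)) M (hle k) x))
    (fun j k T q g₁ g₂ h₁ h₂ O l₁ l₂ lq => cmp_hom_eq φ q g₁ g₂ h₁ h₂ (hle j) (hle k) l₁ l₂ lq x)
  refine ⟨y, fun i W₀ hW₀ h => ?_, fun y' hy' => huniq y' fun k => hy' _ _ (hW k) (hle k)⟩
  let a' : Option κ → ι := fun o => o.elim i a
  let W' : ∀ o, (X (a' o)).Opens := fun o => match o with
    | none => W₀
    | some k => W k
  have hW' : ∀ o, IsAffineOpen (W' o) := fun o => match o with
    | none => hW₀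
    | some k => hW k
  have hle' : ∀ o, W' o ≤ f (a' o) ⁻¹ᵁ V := fun o => match o with
    | none => h
    | some k => hle k
  obtain ⟨y₁, hy₁, -⟩ := existsUnique_section (flat_of_mem hf) hN hV a' W' hW' hle'
    (fun v hv => let ⟨k, hk⟩ := hsurj v hv; ⟨some k, hk⟩)
    (fun o => (comp φ (a' o)).app (W' o) (pullSec (f (a' o)) M (hle' o) x))
    (fun j k T q g₁ g₂ h₁ h₂ O l₁ l₂ lq => cmp_hom_eq φ q g₁ g₂ h₁ h₂ (hle' j) (hle' k) l₁ l₂ lq x)
  rw [← huniq y₁ fun k => hy₁ (some k)]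
  exact hy₁ none

omit hf hN in
theorem good_res {V V' : S.Opens} (hle : V' ≤ V) {x : Γ(M, V)} {y : Γ(N, V)} (h : Good φ V x y) :
    Good φ V' (M.presheaf.map (homOfLE hle).op x) (N.presheaf.map (homOfLE hle).op y) := fun i W hW hWV => by
  have hWV0 : W ≤ f i ⁻¹ᵁ V := hWV.trans ((Opens.map (f i).base).monotone hle)
  rw [← pullSec_res (f i) N hle le_rfl hWV0 hWV y, ← pullSec_res (f i) M hle le_rfl hWV0 hWV x,
    Subsingleton.elim (homOfLE (le_refl W)) (𝟙 W)]
  simp only [op_id, CategoryTheory.Functor.map_id]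
  exact h i W hW hWV0

variable (hM : Coh.IsQCoh M)

include hM

theorem exists_map_eq : ∃ u : M ⟶ N, (Desc.modPF.{u}.toDescentData f).map u = φ := by
  classical
  choose l hl hl' using fun (V : S.affineOpens) (x : Γ(M, V.1)) => existsUnique_good φ hf hN V.2 x
  let L : ∀ V : S.affineOpens, Γ(M, V.1) →ₗ[Γ(S, V.1)] Γ(N, V.1) := fun V =>
    { toFun := l V
      map_add' := fun x x' => (hl' V _ _ fun i W hW h => by
        rw [pullSec_add, pullSec_add, map_add, hl V x i W hW h, hl V x' i W hW h]).symm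
      map_smul' := fun r x => (hl' V _ _ fun i W hW h => by
        simp only [RingHom.id_apply]
        rw [pullSec_smul, pullSec_smul, Scheme.Modules.Hom.app_smul, hl V x i W hW h]).symm }
  obtain ⟨u, hu⟩ := RGLib.HomGlue.exists_hom (M := M) (P := N) (fun V : S.affineOpens => V.1) hM (fun V => V.2)
    (fun p => let ⟨_, ⟨V, hV, rfl⟩, hp, _⟩ :=
      S.isBasis_affineOpens.exists_subset_of_mem_open (Set.mem_univ p) isOpen_univ
      ⟨⟨V, hV⟩, hp⟩) L fun a b p hpa hpb => by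
    obtain ⟨g, hg, hpg⟩ := b.2.exists_basicOpen_le (V := a.1) ⟨p, hpa⟩ hpb
    refine ⟨g, hg, L ⟨S.basicOpen g, b.2.basicOpen g⟩, hpg, fun t => ?_, fun t => ?_⟩
    · exact (hl' ⟨S.basicOpen g, b.2.basicOpen g⟩ _ _ (good_res φ (S.basicOpen_le g) (hl b t))).symm
    · exact (hl' ⟨S.basicOpen g, b.2.basicOpen g⟩ _ _ (good_res φ hg (hl a t))).symm
  refine ⟨u, Pseudofunctor.DescentData.hom_ext fun i => ?_⟩
  show (Scheme.Modules.pullback (f i)).map u = comp φ i
  rw [← sub_eq_zero]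
  choose V hV hxV _ using fun x : X i => exists_isAffineOpen_mem_and_subset (x := f i x) (U := ⊤) trivial
  choose W hW hxW hWV using fun x : X i => exists_isAffineOpen_mem_and_subset (x := x) (U := f i ⁻¹ᵁ V x) (hxV x)
  refine hom_eq_zero_of_cover (isQCoh_pullback (f i) hM) _ W hW (fun x => ⟨x, hxW x⟩) fun x s => ?_
  induction s using induction_pullSec (f i) hM (hV x) (hW x) (hWV x) with
  | h0 => exact map_zero _
  | hs r y hy => rw [Scheme.Modules.Hom.app_smul, hy, smul_zero]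
  | ha y y' hy hy' => rw [map_add, hy, hy', add_zero]
  | hp t =>
    show ((Scheme.Modules.pullback (f i)).map u).app (W x) (pullSec (f i) M (hWV x) t) -
      (comp φ i).app (W x) (pullSec (f i) M (hWV x) t) = 0
    rw [pullSec_naturality, hu ⟨V x, hV x⟩ t]
    exact sub_eq_zero.2 (hl ⟨V x, hV x⟩ t i (W x) (hW x) (hWV x))

omit φ

theorem map_injective {u v : M ⟶ N}
    (h : (Desc.modPF.{u}.toDescentData f).map u = (Desc.modPF.{u}.toDescentData f).map v) : u = v := by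
  rw [← sub_eq_zero]
  refine hom_eq_zero_of_cover hM _ (fun V : S.affineOpens => V.1) (fun V => V.2)
    (fun p => let ⟨_, ⟨V, hV, rfl⟩, hp, _⟩ :=
      S.isBasis_affineOpens.exists_subset_of_mem_open (Set.mem_univ p) isOpen_univ
      ⟨⟨V, hV⟩, hp⟩) fun V s => ?_
  obtain ⟨κ, _, a, W, hW, hle, hsurj⟩ := exists_family hf V.2
  have hi : ∀ i, (Scheme.Modules.pullback (f i)).map u = (Scheme.Modules.pullback (f i)).map v := fun i =>
    congrArg (fun ψ => Pseudofunctor.DescentData.Hom.hom ψ i) h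
  obtain ⟨y, -, huniq⟩ := existsUnique_section (flat_of_mem hf) hN V.2 a W hW hle hsurj
    (fun k => pullSec (f (a k)) N (hle k) (u.app V.1 s))
    (fun j k T q g₁ g₂ h₁ h₂ O l₁ l₂ lq => by
      rw [cmp_pullSec g₁ (f (a j)) q h₁ N (hle j) l₁ lq, cmp_pullSec g₂ (f (a k)) q h₂ N (hle k) l₂ lq])
  show u.app V.1 s - v.app V.1 s = 0
  rw [huniq (u.app V.1 s) (fun k => rfl), huniq (v.app V.1 s) fun k => by
    show pullSec (f (a k)) N (hle k) (v.app V.1 s) = pullSec (f (a k)) N (hle k) (u.app V.1 s)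
    rw [← pullSec_naturality, ← pullSec_naturality, hi]]
  exact sub_self _

end Groth.Agent.QCohDesc
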