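import Groth.Agent.QCohDesc.Tau
import Groth.Agent.QCohDesc.AlgEff

/-!
# A descent datum of quasi-coherent modules over an affine open of the base
-/

set_option autoImplicit false
set_option linter.style.haveILetI false
set_option backward.isDefEq.respectTransparency false
set_option backward.isDefEq.respectTransparency.types false
set_option maxHeartbeats 1000000

universe u

open CategoryTheory CategoryTheory.Limits AlgebraicGeometry TopologicalSpace Opposite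
open scoped TensorProduct

attribute [local instance] Algebra.TensorProduct.rightAlgebra

namespace Groth.Agent.QCohDesc

open Groth.Agent.QCoh Groth.Agent.RGLib.Lim8

variable {ι : Type u} {S : Scheme.{u}} {X : ι → Scheme.{u}} {f : ∀ i, X i ⟶ S}
  (D : Desc.modPF.{u}.DescentData f)

/-- Two sections correspond under the descent datum. -/
def Cpt {i j : ι} {U : (X i).Opens} {U' : (X j).Opens} (x : Γ(Dm D i, U)) (y : Γ(Dm D j, U')) : Prop :=
  ∀ (T : Scheme.{u}) (q : T ⟶ S) (g₁ : T ⟶ X i) (g₂ : T ⟶ X j) (h₁ : g₁ ≫ f i = q) (h₂ : g₂ ≫ f j = q)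
    (O : T.Opens) (l₁ : O ≤ g₁ ⁻¹ᵁ U) (l₂ : O ≤ g₂ ⁻¹ᵁ U'),
    tau D q g₁ g₂ h₁ h₂ l₁ x = pullSec g₂ (Dm D j) l₂ y

theorem Cpt.res {i j : ι} {U U₁ : (X i).Opens} {U' U'₁ : (X j).Opens} {x : Γ(Dm D i, U)} {y : Γ(Dm D j, U')}
    (h : Cpt D x y) (hU : U₁ ≤ U) (hU' : U'₁ ≤ U') :
    Cpt D ((Dm D i).presheaf.map (homOfLE hU).op x) ((Dm D j).presheaf.map (homOfLE hU').op y) :=
  fun T q g₁ g₂ h₁ h₂ O l₁ l₂ => by
    rw [tau_res, ← pullSec_res g₂ (Dm D j) hU' le_rfl (l₂.trans (g₂.preimage_mono hU')) l₂ y,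
      h T q g₁ g₂ h₁ h₂ O (l₁.trans (g₁.preimage_mono hU)) (l₂.trans (g₂.preimage_mono hU')),
      Subsingleton.elim (homOfLE (le_refl O)) (𝟙 O)]
    simp only [op_id, CategoryTheory.Functor.map_id]
    rfl

/-- An affine open of a member of the family over `V`. -/
structure Piece (f : ∀ i, X i ⟶ S) (V : S.Opens) where
  idx : ι
  W : (X idx).Opens
  aff : IsAffineOpen W
  le : W ≤ f idx ⁻¹ᵁ V

variable {V : S.Opens}

noncomputable instance algPiece (P : Piece f V) : Algebra Γ(S, V) Γ(X P.idx, P.W) :=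
  ((f P.idx).appLE V P.W P.le).hom.toAlgebra

noncomputable instance modPiece (P : Piece f V) : Module Γ(S, V) Γ(Dm D P.idx, P.W) :=
  Module.compHom _ ((f P.idx).appLE V P.W P.le).hom

instance towerPiece (P : Piece f V) : IsScalarTower Γ(S, V) Γ(X P.idx, P.W) Γ(Dm D P.idx, P.W) :=
  .of_algebraMap_smul fun _ _ => rfl

theorem flat_piece (hV : IsAffineOpen V) (hflat : ∀ i, Flat (f i)) (P : Piece f V) :
    Module.Flat Γ(S, V) Γ(X P.idx, P.W) :=
  haveI := hflat P.idx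
  (f P.idx).flat_appLE hV P.aff P.le

/-- Transporting scalars along the spectrum. -/
theorem appLE_specMap {C C' : CommRingCat.{u}} (φ : C ⟶ C')
    (hle : (⊤ : (Spec C').Opens) ≤ Spec.map φ ⁻¹ᵁ ⊤) (r : C) :
    (Spec.map φ).appLE ⊤ ⊤ hle ((Scheme.ΓSpecIso C).inv r) = (Scheme.ΓSpecIso C').inv (φ r) := by
  rw [← spec_appTop_scalar φ r, Scheme.Hom.appTop, Scheme.Hom.app_eq_appLE]
  rfl

section Base

variable {B : Type u} [CommRing B] [Algebra Γ(S, V) B] (P : Piece f V)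

variable (B) in
/-- The ring of `B ×_V W`. -/
noncomputable abbrev CB : CommRingCat.{u} := CommRingCat.of (B ⊗[Γ(S, V)] Γ(X P.idx, P.W))

/-- The projection `B ×_V W ⟶ W`. -/
noncomputable def inrR : Γ(X P.idx, P.W) ⟶ CB B P :=
  CommRingCat.ofHom (Algebra.TensorProduct.includeRight :
    Γ(X P.idx, P.W) →ₐ[Γ(S, V)] B ⊗[Γ(S, V)] Γ(X P.idx, P.W)).toRingHom

variable (B) in
/-- The projection `B ×_V W ⟶ X`. -/
noncomputable def gB : Spec (CB B P) ⟶ X P.idx := Spec.map (inrR P) ≫ P.aff.fromSpec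

variable (B) in
theorem top_le_gB : (⊤ : (Spec (CB B P)).Opens) ≤ gB B P ⁻¹ᵁ P.W :=
  fun t _ => P.aff.range_fromSpec.le ⟨(Spec.map (inrR P)) t, rfl⟩

theorem gB_appLE : (gB B P).appLE P.W ⊤ (top_le_gB B P) = inrR P ≫ (Scheme.ΓSpecIso (CB B P)).inv :=
  appLE_specMap_fromSpec P.aff (inrR P) _

variable (B) in
/-- The sections on `B ×_V W` of the pullback. -/
noncomputable abbrev GB : Type u := Γ((Scheme.Modules.pullback (gB B P)).obj (Dm D P.idx), ⊤)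

variable (B) in
/-- `B ⊗ M → Γ(B ×_V W, g^* D)`. -/
noncomputable def Phi : B ⊗[Γ(S, V)] Γ(Dm D P.idx, P.W) →+ GB D B P :=
  TensorProduct.liftAddHom
    (AddMonoidHom.mk' (fun b => AddMonoidHom.mk' (fun m =>
        (show Γ(Spec (CB B P), ⊤) from
            (Scheme.ΓSpecIso (CB B P)).inv (b ⊗ₜ[Γ(S, V)] (1 : Γ(X P.idx, P.W)))) •
          pullSec (gB B P) (Dm D P.idx) (top_le_gB B P) m)
        fun m m' => by rw [pullSec_add, smul_add])
      fun b b' => by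
        ext m
        simp only [AddMonoidHom.mk'_apply, AddMonoidHom.add_apply, ← add_smul, ← map_add, TensorProduct.add_tmul])
    fun r b m => by
      simp only [AddMonoidHom.mk'_apply]
      rw [show r • m = ((f P.idx).appLE V P.W P.le r) • m from rfl, pullSec_smul, gB_appLE, smul_smul]
      congr 1
      refine (congrArg ((Scheme.ΓSpecIso (CB B P)).inv) ?_).trans (map_mul (Scheme.ΓSpecIso (CB B P)).inv.hom _ _)
      show (r • b) ⊗ₜ[Γ(S, V)] (1 : Γ(X P.idx, P.W)) =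
        (b ⊗ₜ[Γ(S, V)] (1 : Γ(X P.idx, P.W))) * ((1 : B) ⊗ₜ[Γ(S, V)] algebraMap Γ(S, V) Γ(X P.idx, P.W) r)
      rw [Algebra.TensorProduct.tmul_mul_tmul, one_mul, mul_one, Algebra.algebraMap_eq_smul_one,
        TensorProduct.smul_tmul]

variable (B) in
theorem Phi_tmul (b : B) (m : Γ(Dm D P.idx, P.W)) :
    Phi D B P (b ⊗ₜ[Γ(S, V)] m) = (show Γ(Spec (CB B P), ⊤) from
        (Scheme.ΓSpecIso (CB B P)).inv (b ⊗ₜ[Γ(S, V)] (1 : Γ(X P.idx, P.W)))) •
      pullSec (gB B P) (Dm D P.idx) (top_le_gB B P) m := rfl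

variable (B) in
theorem bijective_Phi (hq : Coh.IsQCoh (Dm D P.idx)) : Function.Bijective (Phi D B P) := by
  let R := Γ(X P.idx, P.W)
  letI : Algebra R Γ(Spec (CB B P), ⊤) := ((gB B P).appLE P.W ⊤ (top_le_gB B P)).hom.toAlgebra
  letI : Module R (GB D B P) := Module.compHom _ ((gB B P).appLE P.W ⊤ (top_le_gB B P)).hom
  haveI : IsScalarTower R Γ(Spec (CB B P), ⊤) (GB D B P) := .of_algebraMap_smul fun _ _ => rfl
  let L : Γ(Dm D P.idx, P.W) →ₗ[R] GB D B P :=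
    { toFun := pullSec (gB B P) (Dm D P.idx) (top_le_gB B P)
      map_add' := pullSec_add (gB B P) (Dm D P.idx) (top_le_gB B P)
      map_smul' := pullSec_smul (gB B P) (Dm D P.idx) (top_le_gB B P) }
  have hb : IsBaseChange Γ(Spec (CB B P), ⊤) L :=
    isBaseChange_pullback P.aff (gB B P) (isAffineOpen_top _) hq (top_le_gB B P) (fun _ => rfl) L fun _ => rfl
  have hcomm : ∀ r : R, (Scheme.ΓSpecIso (CB B P)).inv (algebraMap R (B ⊗[Γ(S, V)] R) r) =
      (gB B P).appLE P.W ⊤ (top_le_gB B P) r := fun r => by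
    rw [gB_appLE]
    rfl
  let eC : (B ⊗[Γ(S, V)] R) ≃ₐ[R] Γ(Spec (CB B P), ⊤) :=
    AlgEquiv.ofRingEquiv (f := (Scheme.ΓSpecIso (CB B P)).symm.commRingCatIsoToRingEquiv) hcomm
  let E : B ⊗[Γ(S, V)] Γ(Dm D P.idx, P.W) → GB D B P := fun z => hb.equiv
    (TensorProduct.congr eC.toLinearEquiv (LinearEquiv.refl R Γ(Dm D P.idx, P.W))
      ((Algebra.IsPushout.cancelBaseChange Γ(S, V) B R (B ⊗[Γ(S, V)] R) Γ(Dm D P.idx, P.W)).symm z))
  have hE : Function.Bijective E := hb.equiv.bijective.comp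
    ((LinearEquiv.bijective _).comp (LinearEquiv.bijective _))
  suffices h : ∀ z, Phi D B P z = E z by
    rw [funext h]
    exact hE
  intro z
  induction z using TensorProduct.induction_on with
  | zero => simp [E]
  | add a b ha hb' => simp only [map_add, ha, hb', E]
  | tmul b m =>
    simp only [E, Algebra.IsPushout.cancelBaseChange_symm_tmul, TensorProduct.congr_tmul, LinearEquiv.refl_apply]
    rw [hb.equiv_tmul, Phi_tmul]
    rfl

/-- The behaviour under a change of ring. -/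
theorem cmp_Phi_tmul {C' : CommRingCat.{u}} (ψ : CB B P ⟶ C') (g' : Spec C' ⟶ X P.idx)
    (hg : Spec.map ψ ≫ gB B P = g') (l : (⊤ : (Spec C').Opens) ≤ g' ⁻¹ᵁ P.W) (b : B) (m : Γ(Dm D P.idx, P.W)) :
    cmp (Spec.map ψ) (gB B P) g' hg (Dm D P.idx)
        (show (⊤ : (Spec C').Opens) ≤ Spec.map ψ ⁻¹ᵁ ⊤ from le_top) (Phi D B P (b ⊗ₜ[Γ(S, V)] m)) =
      (show Γ(Spec C', ⊤) from (Scheme.ΓSpecIso C').inv (ψ (b ⊗ₜ[Γ(S, V)] (1 : Γ(X P.idx, P.W))))) •
        pullSec g' (Dm D P.idx) l m := by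
  rw [Phi_tmul, cmp_smul]
  exact congrArg₂ (· • ·) (appLE_specMap ψ _ _) (cmp_pullSec _ _ _ _ _ _ _ l m)

variable (B) in
/-- The structure map of `B ×_V W` to `S` factors through `V`. -/
theorem specMap_fromSpec_comp (hV : IsAffineOpen V) {C : CommRingCat.{u}} (φ : Γ(X P.idx, P.W) ⟶ C) :
    (Spec.map φ ≫ P.aff.fromSpec) ≫ f P.idx = Spec.map ((f P.idx).appLE V P.W P.le ≫ φ) ≫ hV.fromSpec := by
  rw [Category.assoc, ← IsAffineOpen.SpecMap_appLE_fromSpec (f P.idx) hV P.aff P.le, Spec.map_comp_assoc]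

/-- A change of ring which respects the right factor. -/
noncomputable def mapLeft {B' : Type u} [CommRing B'] [Algebra Γ(S, V) B'] (α : B →ₐ[Γ(S, V)] B') :
    CB B P ⟶ CB B' P :=
  CommRingCat.ofHom (Algebra.TensorProduct.map α (AlgHom.id Γ(S, V) Γ(X P.idx, P.W))).toRingHom

theorem mapLeft_gB {B' : Type u} [CommRing B'] [Algebra Γ(S, V) B'] (α : B →ₐ[Γ(S, V)] B') :
    Spec.map (mapLeft P α) ≫ gB B P = gB B' P := by
  rw [gB, gB, ← Spec.map_comp_assoc]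
  congr 2
  refine CommRingCat.hom_ext (RingHom.ext fun r => ?_)
  show α 1 ⊗ₜ[Γ(S, V)] r = 1 ⊗ₜ[Γ(S, V)] r
  rw [map_one]

theorem cmp_Phi_mapLeft {B' : Type u} [CommRing B'] [Algebra Γ(S, V) B'] (α : B →ₐ[Γ(S, V)] B')
    (z : B ⊗[Γ(S, V)] Γ(Dm D P.idx, P.W)) :
    cmp (Spec.map (mapLeft P α)) (gB B P) (gB B' P) (mapLeft_gB P α) (Dm D P.idx)
        (show (⊤ : (Spec (CB B' P)).Opens) ≤ Spec.map (mapLeft P α) ⁻¹ᵁ ⊤ from le_top) (Phi D B P z) =
      Phi D B' P (LinearMap.rTensor _ α.toLinearMap z) := by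
  induction z using TensorProduct.induction_on with
  | zero => simp [cmp_zero]
  | add a b ha hb => rw [map_add, cmp_add, ha, hb, map_add, map_add]
  | tmul b m =>
    rw [cmp_Phi_tmul D P (mapLeft P α) (gB B' P) (mapLeft_gB P α) (top_le_gB B' P), LinearMap.rTensor_tmul, Phi_tmul]
    rfl

end Base

section Theta

variable (hV : IsAffineOpen V) (hq : ∀ i, Coh.IsQCoh (Dm D i)) (P Q R : Piece f V)

/-- The first projection of a product of two pieces. -/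
noncomputable def inlR : Γ(X P.idx, P.W) ⟶ CB Γ(X P.idx, P.W) Q :=
  CommRingCat.ofHom (Algebra.TensorProduct.includeLeft :
    Γ(X P.idx, P.W) →ₐ[Γ(S, V)] Γ(X P.idx, P.W) ⊗[Γ(S, V)] Γ(X Q.idx, Q.W)).toRingHom

/-- The first projection to the member. -/
noncomputable def gL : Spec (CB Γ(X P.idx, P.W) Q) ⟶ X P.idx := Spec.map (inlR P Q) ≫ P.aff.fromSpec

theorem top_le_gL : (⊤ : (Spec (CB Γ(X P.idx, P.W) Q)).Opens) ≤ gL P Q ⁻¹ᵁ P.W :=
  fun t _ => P.aff.range_fromSpec.le ⟨(Spec.map (inlR P Q)) t, rfl⟩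

include hV in
theorem gL_comp : gB Γ(X P.idx, P.W) Q ≫ f Q.idx = gL P Q ≫ f P.idx := by
  rw [gB, gL, specMap_fromSpec_comp Q hV, specMap_fromSpec_comp P hV]
  congr 2
  refine CommRingCat.hom_ext (RingHom.ext fun r => ?_)
  exact ((Algebra.TensorProduct.includeRight :
      Γ(X Q.idx, Q.W) →ₐ[Γ(S, V)] Γ(X P.idx, P.W) ⊗[Γ(S, V)] Γ(X Q.idx, Q.W)).commutes r).trans
    ((Algebra.TensorProduct.includeLeft :
      Γ(X P.idx, P.W) →ₐ[Γ(S, V)] Γ(X P.idx, P.W) ⊗[Γ(S, V)] Γ(X Q.idx, Q.W)).commutes r).symm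

/-- The transport between two pieces. -/
noncomputable def tau2 (x : Γ(Dm D P.idx, P.W)) : GB D Γ(X P.idx, P.W) Q :=
  tau D (gL P Q ≫ f P.idx) (gL P Q) (gB Γ(X P.idx, P.W) Q) rfl (gL_comp hV P Q) (top_le_gL P Q) x

/-- `Phi` as an equivalence. -/
noncomputable def PhiEquiv (B : Type u) [CommRing B] [Algebra Γ(S, V) B] :
    B ⊗[Γ(S, V)] Γ(Dm D P.idx, P.W) ≃+ GB D B P :=
  AddEquiv.ofBijective (Phi D B P) (bijective_Phi D B P (hq P.idx))

theorem Phi_smul_left (b : Γ(X P.idx, P.W)) (z : Γ(X P.idx, P.W) ⊗[Γ(S, V)] Γ(Dm D Q.idx, Q.W)) :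
    Phi D Γ(X P.idx, P.W) Q (b • z) =
      (gL P Q).appLE P.W ⊤ (top_le_gL P Q) b • Phi D Γ(X P.idx, P.W) Q z := by
  induction z using TensorProduct.induction_on with
  | zero => simp
  | add a c ha hc => rw [smul_add, map_add, ha, hc, map_add, smul_add]
  | tmul c m =>
    rw [TensorProduct.smul_tmul', Phi_tmul, Phi_tmul, smul_smul]
    congr 1
    rw [show (gL P Q).appLE P.W ⊤ (top_le_gL P Q) = inlR P Q ≫ (Scheme.ΓSpecIso _).inv from
      appLE_specMap_fromSpec P.aff (inlR P Q) _]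
    refine (congrArg ((Scheme.ΓSpecIso (CB Γ(X P.idx, P.W) Q)).inv) ?_).trans
      (map_mul (Scheme.ΓSpecIso (CB Γ(X P.idx, P.W) Q)).inv.hom _ _)
    show (b • c) ⊗ₜ[Γ(S, V)] (1 : Γ(X Q.idx, Q.W)) =
      (b ⊗ₜ[Γ(S, V)] (1 : Γ(X Q.idx, Q.W))) * (c ⊗ₜ[Γ(S, V)] (1 : Γ(X Q.idx, Q.W)))
    rw [Algebra.TensorProduct.tmul_mul_tmul, one_mul, smul_eq_mul]

/-- The descent datum in terms of modules. -/
noncomputable def theta :
    Γ(Dm D P.idx, P.W) →ₗ[Γ(X P.idx, P.W)] Γ(X P.idx, P.W) ⊗[Γ(S, V)] Γ(Dm D Q.idx, Q.W) where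
  toFun x := (PhiEquiv D hq Q Γ(X P.idx, P.W)).symm (tau2 D hV P Q x)
  map_add' x y := by rw [← map_add, tau2, tau_add]; rfl
  map_smul' b x := by
    rw [RingHom.id_apply, AddEquiv.symm_apply_eq]
    refine Eq.trans ?_ (Phi_smul_left D P Q b _).symm
    rw [show Phi D Γ(X P.idx, P.W) Q ((PhiEquiv D hq Q Γ(X P.idx, P.W)).symm (tau2 D hV P Q x)) =
      tau2 D hV P Q x from AddEquiv.apply_symm_apply (PhiEquiv D hq Q Γ(X P.idx, P.W)) _]
    exact tau_smul D _ _ _ _ _ _ b x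

theorem Phi_theta (x : Γ(Dm D P.idx, P.W)) :
    Phi D Γ(X P.idx, P.W) Q (theta D hV hq P Q x) = tau2 D hV P Q x :=
  AddEquiv.apply_symm_apply (PhiEquiv D hq Q Γ(X P.idx, P.W)) _

theorem Phi_one_tmul {B : Type u} [CommRing B] [Algebra Γ(S, V) B] (y : Γ(Dm D P.idx, P.W)) :
    Phi D B P ((1 : B) ⊗ₜ[Γ(S, V)] y) = pullSec (gB B P) (Dm D P.idx) (top_le_gB B P) y := by
  rw [Phi_tmul]
  refine Eq.trans ?_ (one_smul Γ(Spec (CB B P), ⊤) _)
  exact congrArg (· • _) (map_one (Scheme.ΓSpecIso (CB B P)).inv.hom)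

theorem theta_counit (x : Γ(Dm D P.idx, P.W)) :
    LinearMap.liftBaseChange Γ(X P.idx, P.W)
      (LinearMap.id : Γ(Dm D P.idx, P.W) →ₗ[Γ(S, V)] Γ(Dm D P.idx, P.W)) (theta D hV hq P P x) = x := by
  let A := Γ(S, V)
  let R := Γ(X P.idx, P.W)
  let δ : CB R P ⟶ CB A P :=
    CommRingCat.ofHom ((Algebra.TensorProduct.includeRight : R →ₐ[A] A ⊗[A] R).comp
      (Algebra.TensorProduct.lmul' A (S := R))).toRingHom
  have hδ1 : Spec.map δ ≫ gB R P = gB A P := by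
    rw [gB, gB, ← Spec.map_comp_assoc]
    congr 2
    refine CommRingCat.hom_ext (RingHom.ext fun r => ?_)
    show (1 : A) ⊗ₜ[A] (Algebra.TensorProduct.lmul' A (S := R) ((1 : R) ⊗ₜ[A] r)) = _
    rw [Algebra.TensorProduct.lmul'_apply_tmul, one_mul]
    rfl
  have hδ2 : Spec.map δ ≫ gL P P = gB A P := by
    rw [gB, gL, ← Spec.map_comp_assoc]
    congr 2
    refine CommRingCat.hom_ext (RingHom.ext fun r => ?_)
    show (1 : A) ⊗ₜ[A] (Algebra.TensorProduct.lmul' A (S := R) (r ⊗ₜ[A] (1 : R))) = _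
    rw [Algebra.TensorProduct.lmul'_apply_tmul, mul_one]
    rfl
  have key : ∀ z : R ⊗[A] Γ(Dm D P.idx, P.W),
      cmp (Spec.map δ) (gB R P) (gB A P) hδ1 (Dm D P.idx)
          (show (⊤ : (Spec (CB A P)).Opens) ≤ Spec.map δ ⁻¹ᵁ ⊤ from le_top) (Phi D R P z) =
        pullSec (gB A P) (Dm D P.idx) (top_le_gB A P) (LinearMap.liftBaseChange R LinearMap.id z) := fun z => by
    induction z using TensorProduct.induction_on with
    | zero => rw [map_zero, cmp_zero, map_zero, ← Phi_one_tmul, TensorProduct.tmul_zero, map_zero]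
    | add a b ha hb => rw [map_add, cmp_add, ha, hb, map_add, pullSec_add]
    | tmul b m =>
      rw [cmp_Phi_tmul D P δ (gB A P) hδ1 (top_le_gB A P), LinearMap.liftBaseChange_tmul, LinearMap.id_apply,
        pullSec_smul, gB_appLE]
      congr 2
      show (Scheme.ΓSpecIso (CB A P)).inv
          ((1 : A) ⊗ₜ[A] (Algebra.TensorProduct.lmul' A (S := R) (b ⊗ₜ[A] (1 : R)))) = _
      rw [Algebra.TensorProduct.lmul'_apply_tmul, mul_one]
      rfl
  have h : pullSec (gB A P) (Dm D P.idx) (top_le_gB A P)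
      (LinearMap.liftBaseChange R LinearMap.id (theta D hV hq P P x)) =
        pullSec (gB A P) (Dm D P.idx) (top_le_gB A P) x := by
    rw [← key, Phi_theta]
    refine (tau_bc D (gL P P ≫ f P.idx) (gL P P) (gB R P) rfl (gL_comp hV P P) (Spec.map δ) (gB A P ≫ f P.idx)
      (gB A P) (gB A P) hδ2 hδ1 rfl rfl (top_le_gL P P) le_top (top_le_gB A P) x).trans ?_
    exact tau_self D _ _ rfl _ x
  rw [← Phi_one_tmul, ← Phi_one_tmul] at h
  exact one_tmul_injective (A := A) (B := A) Function.bijective_id ((bijective_Phi D A P (hq _)).1 h)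

theorem theta_cocycle (x : Γ(Dm D P.idx, P.W)) :
    LinearMap.lTensor Γ(X P.idx, P.W) ((theta D hV hq Q R).restrictScalars Γ(S, V)) (theta D hV hq P Q x) =
      LinearMap.lTensor Γ(X P.idx, P.W)
        (TensorProduct.mk Γ(S, V) Γ(X Q.idx, Q.W) Γ(Dm D R.idx, R.W) 1) (theta D hV hq P R x) := by
  let A := Γ(S, V)
  let BP := Γ(X P.idx, P.W)
  let BQ := Γ(X Q.idx, Q.W)
  let B2 := BP ⊗[A] BQ
  let incl : B2 →ₐ[A] B2 ⊗[A] Γ(X R.idx, R.W) := Algebra.TensorProduct.includeLeft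
  let ψ : CB BP Q ⟶ CB B2 R := CommRingCat.ofHom incl.toRingHom
  let α : BP →ₐ[A] B2 := Algebra.TensorProduct.includeLeft
  let β : BQ →ₐ[A] B2 := Algebra.TensorProduct.includeRight
  let m13 := mapLeft R α
  let m23 := mapLeft R β
  let h1 : Spec (CB B2 R) ⟶ X P.idx := Spec.map ψ ≫ gL P Q
  let h2 : Spec (CB B2 R) ⟶ X Q.idx := Spec.map ψ ≫ gB BP Q
  let h3 : Spec (CB B2 R) ⟶ X R.idx := gB B2 R
  let q3 : Spec (CB B2 R) ⟶ S := h1 ≫ f P.idx
  have e13 : Spec.map m13 ≫ gL P R = h1 := by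
    simp only [h1, gL, ← Spec.map_comp_assoc]
    congr 2
  have e23 : Spec.map m23 ≫ gL Q R = h2 := by
    simp only [h2, gL, gB, ← Spec.map_comp_assoc]
    congr 2
  have hq2 : h2 ≫ f Q.idx = q3 := by
    simp only [q3, h2, h1, Category.assoc]
    exact congrArg (Spec.map ψ ≫ ·) (gL_comp hV P Q)
  have hq3 : h3 ≫ f R.idx = q3 := by
    rw [show h3 = Spec.map m13 ≫ gB BP R from (mapLeft_gB R α).symm, Category.assoc, gL_comp hV P R,
      ← Category.assoc, e13]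
  have l1 : (⊤ : (Spec (CB B2 R)).Opens) ≤ h1 ⁻¹ᵁ P.W := fun t _ => top_le_gL P Q (Set.mem_univ (Spec.map ψ t))
  have l2 : (⊤ : (Spec (CB B2 R)).Opens) ≤ h2 ⁻¹ᵁ Q.W := fun t _ => top_le_gB BP Q (Set.mem_univ (Spec.map ψ t))
  let E : BP ⊗[A] (BQ ⊗[A] Γ(Dm D R.idx, R.W)) → GB D B2 R := fun z =>
    Phi D B2 R ((TensorProduct.assoc A BP BQ Γ(Dm D R.idx, R.W)).symm z)
  have hEinj : Function.Injective E :=
    (bijective_Phi D B2 R (hq _)).1.comp (LinearEquiv.injective _)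
  have hEb : ∀ (b : BP) (w : BQ ⊗[A] Γ(Dm D R.idx, R.W)),
      E (b ⊗ₜ[A] w) = (show Γ(Spec (CB B2 R), ⊤) from
        (Scheme.ΓSpecIso (CB B2 R)).inv (ψ (b ⊗ₜ[A] (1 : BQ)))) •
          Phi D B2 R (LinearMap.rTensor _ β.toLinearMap w) := fun b w => by
    induction w using TensorProduct.induction_on with
    | zero => simp [E]
    | add a c ha hc =>
      simp only [E, TensorProduct.tmul_add, map_add] at ha hc ⊢
      rw [ha, hc, smul_add]
    | tmul c m =>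
      simp only [E, TensorProduct.assoc_symm_tmul, LinearMap.rTensor_tmul]
      rw [Phi_tmul, Phi_tmul, smul_smul]
      congr 1
      refine (congrArg ((Scheme.ΓSpecIso (CB B2 R)).inv) ?_).trans (map_mul (Scheme.ΓSpecIso (CB B2 R)).inv.hom _ _)
      show (b ⊗ₜ[A] c) ⊗ₜ[A] (1 : Γ(X R.idx, R.W)) =
        ((b ⊗ₜ[A] (1 : BQ)) ⊗ₜ[A] (1 : Γ(X R.idx, R.W))) * (((1 : BP) ⊗ₜ[A] c) ⊗ₜ[A] (1 : Γ(X R.idx, R.W)))
      rw [Algebra.TensorProduct.tmul_mul_tmul, Algebra.TensorProduct.tmul_mul_tmul, one_mul, mul_one, one_mul]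
  -- the left hand side
  have key1 : ∀ z : BP ⊗[A] Γ(Dm D Q.idx, Q.W),
      E (LinearMap.lTensor BP ((theta D hV hq Q R).restrictScalars A) z) =
        (homD D q3 h2 h3 hq2 hq3).app ⊤ (cmp (Spec.map ψ) (gB BP Q) h2 rfl (Dm D Q.idx)
          (show (⊤ : (Spec (CB B2 R)).Opens) ≤ Spec.map ψ ⁻¹ᵁ ⊤ from le_top) (Phi D BP Q z)) := fun z => by
    induction z using TensorProduct.induction_on with
    | zero => simp [E, cmp_zero]
    | add a b ha hb =>
      simp only [E, map_add] at ha hb ⊢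
      rw [cmp_add, map_add, ha, hb]
    | tmul b m =>
      rw [LinearMap.lTensor_tmul, hEb, cmp_Phi_tmul D Q ψ h2 rfl l2, Scheme.Modules.Hom.app_smul,
        LinearMap.restrictScalars_apply]
      congr 1
      rw [← cmp_Phi_mapLeft, Phi_theta]
      exact tau_bc D _ (gL Q R) (gB BQ R) rfl (gL_comp hV Q R) (Spec.map m23) q3 h2 h3 e23 (mapLeft_gB R β)
        hq2 hq3 (top_le_gL Q R) le_top l2 m
  -- the right hand side
  have key2 : ∀ z : BP ⊗[A] Γ(Dm D R.idx, R.W),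
      E (LinearMap.lTensor BP (TensorProduct.mk A BQ Γ(Dm D R.idx, R.W) 1) z) =
        Phi D B2 R (LinearMap.rTensor _ α.toLinearMap z) := fun z => by
    induction z using TensorProduct.induction_on with
    | zero => simp [E]
    | add a b ha hb =>
      simp only [E, map_add] at ha hb ⊢
      rw [ha, hb]
    | tmul b m =>
      simp only [E, LinearMap.lTensor_tmul, TensorProduct.mk_apply, TensorProduct.assoc_symm_tmul,
        LinearMap.rTensor_tmul]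
      rfl
  apply hEinj
  rw [key1, key2, Phi_theta, ← cmp_Phi_mapLeft, Phi_theta]
  unfold tau2
  rw [tau_bc D _ (gL P Q) (gB BP Q) rfl (gL_comp hV P Q) (Spec.map ψ) q3 h1 h2 rfl rfl rfl hq2
      (top_le_gL P Q) le_top l1 x]
  refine (tau_comp D q3 h1 h2 h3 rfl hq2 hq3 l1 x).trans ?_
  exact (tau_bc D _ (gL P R) (gB BP R) rfl (gL_comp hV P R) (Spec.map m13) q3 h1 h3 e13 (mapLeft_gB R α)
    rfl hq3 (top_le_gL P R) le_top l1 x).symm

theorem eq_of_pullSec_fromSpec {T : Scheme.{u}} {O : T.Opens} (hO : IsAffineOpen O) {G : T.Modules}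
    (hG : Coh.IsQCoh G) (hle : (⊤ : (Spec Γ(T, O)).Opens) ≤ hO.fromSpec ⁻¹ᵁ O) {a b : Γ(G, O)}
    (h : pullSec hO.fromSpec G hle a = pullSec hO.fromSpec G hle b) : a = b := by
  letI : Algebra Γ(T, O) Γ(Spec Γ(T, O), ⊤) := (hO.fromSpec.appLE O ⊤ hle).hom.toAlgebra
  letI : Module Γ(T, O) Γ((Scheme.Modules.pullback hO.fromSpec).obj G, ⊤) :=
    Module.compHom _ (hO.fromSpec.appLE O ⊤ hle).hom
  haveI : IsScalarTower Γ(T, O) Γ(Spec Γ(T, O), ⊤) Γ((Scheme.Modules.pullback hO.fromSpec).obj G, ⊤) :=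
    .of_algebraMap_smul fun _ _ => rfl
  let L : Γ(G, O) →ₗ[Γ(T, O)] Γ((Scheme.Modules.pullback hO.fromSpec).obj G, ⊤) :=
    { toFun := pullSec hO.fromSpec G hle
      map_add' := pullSec_add hO.fromSpec G hle
      map_smul' := pullSec_smul hO.fromSpec G hle }
  have hb : IsBaseChange Γ(Spec Γ(T, O), ⊤) L :=
    isBaseChange_pullback hO hO.fromSpec (isAffineOpen_top _) hG hle (fun _ => rfl) L fun _ => rfl
  have hbij : Function.Bijective (algebraMap Γ(T, O) Γ(Spec Γ(T, O), ⊤)) := by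
    have e := appLE_specMap_fromSpec hO (𝟙 _) (by rw [Spec.map_id, Category.id_comp]; exact hle)
    simp only [Spec.map_id, Category.id_comp] at e
    show Function.Bijective (hO.fromSpec.appLE O ⊤ hle).hom
    rw [e]
    exact (Scheme.ΓSpecIso Γ(T, O)).symm.commRingCatIsoToRingEquiv.bijective
  refine one_tmul_injective hbij (hb.equiv.injective ?_)
  show hb.equiv ((1 : Γ(Spec Γ(T, O), ⊤)) ⊗ₜ a) = hb.equiv (1 ⊗ₜ b)
  rw [hb.equiv_tmul, hb.equiv_tmul, one_smul, one_smul]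
  exact h

theorem theta_eq_iff (x : Γ(Dm D P.idx, P.W)) (y : Γ(Dm D Q.idx, Q.W)) :
    theta D hV hq P Q x = (1 : Γ(X P.idx, P.W)) ⊗ₜ[Γ(S, V)] y ↔ Cpt D x y := by
  constructor
  · intro h T q g₁ g₂ h₁ h₂ O l₁ l₂
    have h0 : tau2 D hV P Q x = pullSec (gB Γ(X P.idx, P.W) Q) (Dm D Q.idx) (top_le_gB _ Q) y := by
      rw [← Phi_theta D hV hq, h, Phi_one_tmul]
    -- reduce to an affine open
    rw [← sub_eq_zero]
    refine eq_zero_of_locally O _ fun t ht => ?_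
    obtain ⟨O', hO', htO', hO'O⟩ := exists_isAffineOpen_mem_and_subset (x := t) (U := O) ht
    refine ⟨O', homOfLE hO'O, htO', ?_⟩
    rw [map_sub, sub_eq_zero, tau_map, pullSec_map]
    have m₁ : O' ≤ g₁ ⁻¹ᵁ P.W := le_trans hO'O l₁
    have m₂ : O' ≤ g₂ ⁻¹ᵁ Q.W := le_trans hO'O l₂
    have mq : O' ≤ q ⁻¹ᵁ V := fun s hs => by rw [← h₁]; exact P.le (m₁ hs)
    letI : Algebra Γ(S, V) Γ(T, O') := (q.appLE V O' mq).hom.toAlgebra
    let a₁ : Γ(X P.idx, P.W) →ₐ[Γ(S, V)] Γ(T, O') := ⟨(g₁.appLE P.W O' m₁).hom, fun r => by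
      show (g₁.appLE P.W O' m₁) ((f P.idx).appLE V P.W P.le r) = q.appLE V O' mq r
      subst h₁
      rw [← Scheme.Hom.appLE_comp_appLE g₁ (f P.idx) V P.W O' P.le m₁]
      rfl⟩
    let a₂ : Γ(X Q.idx, Q.W) →ₐ[Γ(S, V)] Γ(T, O') := ⟨(g₂.appLE Q.W O' m₂).hom, fun r => by
      show (g₂.appLE Q.W O' m₂) ((f Q.idx).appLE V Q.W Q.le r) = q.appLE V O' mq r
      subst h₂
      rw [← Scheme.Hom.appLE_comp_appLE g₂ (f Q.idx) V Q.W O' Q.le m₂]
      rfl⟩
    let χ : CB Γ(X P.idx, P.W) Q ⟶ Γ(T, O') :=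
      CommRingCat.ofHom (Algebra.TensorProduct.lift a₁ a₂ fun _ _ => Commute.all _ _).toRingHom
    have eχ₁ : inlR P Q ≫ χ = g₁.appLE P.W O' m₁ := by
      refine CommRingCat.hom_ext (RingHom.ext fun r => ?_)
      show Algebra.TensorProduct.lift a₁ a₂ (fun _ _ => Commute.all _ _) (r ⊗ₜ[Γ(S, V)] 1) = _
      rw [Algebra.TensorProduct.lift_tmul, map_one, mul_one]
      rfl
    have eχ₂ : inrR Q ≫ χ = g₂.appLE Q.W O' m₂ := by
      refine CommRingCat.hom_ext (RingHom.ext fun r => ?_)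
      show Algebra.TensorProduct.lift a₁ a₂ (fun _ _ => Commute.all _ _) (1 ⊗ₜ[Γ(S, V)] r) = _
      rw [Algebra.TensorProduct.lift_tmul, map_one, one_mul]
      rfl
    have e₁ : Spec.map χ ≫ gL P Q = hO'.fromSpec ≫ g₁ := by
      rw [gL, ← Spec.map_comp_assoc, eχ₁, IsAffineOpen.SpecMap_appLE_fromSpec g₁ P.aff hO' m₁]
    have e₂ : Spec.map χ ≫ gB Γ(X P.idx, P.W) Q = hO'.fromSpec ≫ g₂ := by
      rw [gB, ← Spec.map_comp_assoc, eχ₂, IsAffineOpen.SpecMap_appLE_fromSpec g₂ Q.aff hO' m₂]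
    have lO : (⊤ : (Spec Γ(T, O')).Opens) ≤ hO'.fromSpec ⁻¹ᵁ O' := fun s _ => hO'.range_fromSpec.le ⟨s, rfl⟩
    refine eq_of_pullSec_fromSpec hO' (isQCoh_pullback g₂ (hq _)) lO ?_
    have k1 : (Spec.map χ ≫ gB Γ(X P.idx, P.W) Q) ≫ f Q.idx = hO'.fromSpec ≫ q := by
      rw [e₂, Category.assoc, h₂]
    have k2 : (Spec.map χ ≫ gL P Q) ≫ f P.idx = hO'.fromSpec ≫ q := by
      rw [e₁, Category.assoc, h₁]
    have n₁ : (⊤ : (Spec Γ(T, O')).Opens) ≤ (hO'.fromSpec ≫ g₁) ⁻¹ᵁ P.W := fun s hs => m₁ (lO hs)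
    have n₂ : (⊤ : (Spec Γ(T, O')).Opens) ≤ (hO'.fromSpec ≫ g₂) ⁻¹ᵁ Q.W := fun s hs => m₂ (lO hs)
    let C2 := cmpIso hO'.fromSpec g₂ (hO'.fromSpec ≫ g₂) rfl (Dm D Q.idx)
    have hC : Function.Injective (C2.hom.app ⊤) := Function.LeftInverse.injective (g := C2.inv.app ⊤) fun z =>
      congrArg (fun ψ => Scheme.Modules.Hom.app ψ ⊤ z) C2.hom_inv_id
    apply hC
    refine (tau_bc D q g₁ g₂ h₁ h₂ hO'.fromSpec (hO'.fromSpec ≫ q) (hO'.fromSpec ≫ g₁) (hO'.fromSpec ≫ g₂)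
      rfl rfl (by rw [Category.assoc, h₁]) (by rw [Category.assoc, h₂]) m₁ lO n₁ x).trans ?_
    refine Eq.trans ?_ (cmp_pullSec hO'.fromSpec g₂ (hO'.fromSpec ≫ g₂) rfl (Dm D Q.idx) m₂ lO n₂ y).symm
    refine Eq.trans ?_ (cmp_pullSec (Spec.map χ) (gB Γ(X P.idx, P.W) Q) (hO'.fromSpec ≫ g₂) e₂ (Dm D Q.idx)
      (top_le_gB _ Q) le_top n₂ y)
    rw [← h0]
    exact (tau_bc D (gL P Q ≫ f P.idx) (gL P Q) (gB Γ(X P.idx, P.W) Q) rfl (gL_comp hV P Q) (Spec.map χ)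
      (hO'.fromSpec ≫ q) (hO'.fromSpec ≫ g₁) (hO'.fromSpec ≫ g₂) e₁ e₂
      (by rw [Category.assoc, h₁]) (by rw [Category.assoc, h₂]) (top_le_gL P Q) le_top n₁ x).symm
  · intro h
    refine (bijective_Phi D _ Q (hq _)).1 ?_
    rw [Phi_theta, Phi_one_tmul]
    exact h _ _ _ _ _ _ ⊤ (top_le_gL P Q) (top_le_gB _ Q)

end Theta

end Groth.Agent.QCohDesc
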