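import Groth.Agent.QCohDesc.Hom

/-!
# Transport of sections along a descent datum of modules
-/

set_option autoImplicit false
set_option linter.style.haveILetI false
set_option backward.isDefEq.respectTransparency false
set_option backward.isDefEq.respectTransparency.types false
set_option maxHeartbeats 1000000

universe u

open CategoryTheory CategoryTheory.Limits AlgebraicGeometry TopologicalSpace Opposite

namespace Groth.Agent.QCohDesc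

open Groth.Agent.QCoh Groth.Agent.RGLib.Lim8

variable {ι : Type u} {S : Scheme.{u}} {X : ι → Scheme.{u}} {f : ∀ i, X i ⟶ S}
  (D : Desc.modPF.{u}.DescentData f)

/-- The module of a descent datum on a member of the family. -/
noncomputable abbrev Dm (i : ι) : (X i).Modules := D.obj i

variable {T T' : Scheme.{u}} (q : T ⟶ S) {i j k : ι} (g₁ : T ⟶ X i) (g₂ : T ⟶ X j) (g₃ : T ⟶ X k)
  (h₁ : g₁ ≫ f i = q) (h₂ : g₂ ≫ f j = q) (h₃ : g₃ ≫ f k = q)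

/-- The transition map of a descent datum. -/
noncomputable abbrev homD : (Scheme.Modules.pullback g₁).obj (Dm D i) ⟶ (Scheme.Modules.pullback g₂).obj (Dm D j) :=
  D.hom q g₁ g₂ h₁ h₂

/-- A section of the first member, moved to the second. -/
noncomputable def tau {U : (X i).Opens} {O : T.Opens} (l : O ≤ g₁ ⁻¹ᵁ U) (x : Γ(Dm D i, U)) :
    Γ((Scheme.Modules.pullback g₂).obj (Dm D j), O) :=
  (homD D q g₁ g₂ h₁ h₂).app O (pullSec g₁ (Dm D i) l x)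

theorem tau_add {U : (X i).Opens} {O : T.Opens} (l : O ≤ g₁ ⁻¹ᵁ U) (x y : Γ(Dm D i, U)) :
    tau D q g₁ g₂ h₁ h₂ l (x + y) = tau D q g₁ g₂ h₁ h₂ l x + tau D q g₁ g₂ h₁ h₂ l y := by
  unfold tau
  rw [pullSec_add, map_add]

theorem tau_zero {U : (X i).Opens} {O : T.Opens} (l : O ≤ g₁ ⁻¹ᵁ U) :
    tau D q g₁ g₂ h₁ h₂ l (0 : Γ(Dm D i, U)) = 0 := by
  have h := tau_add D q g₁ g₂ h₁ h₂ l 0 0
  rwa [add_zero, left_eq_add] at h

theorem tau_smul {U : (X i).Opens} {O : T.Opens} (l : O ≤ g₁ ⁻¹ᵁ U) (r : Γ(X i, U)) (x : Γ(Dm D i, U)) :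
    tau D q g₁ g₂ h₁ h₂ l (r • x) = g₁.appLE U O l r • tau D q g₁ g₂ h₁ h₂ l x := by
  unfold tau
  rw [pullSec_smul, Scheme.Modules.Hom.app_smul]

theorem tau_self {U : (X i).Opens} {O : T.Opens} (l : O ≤ g₁ ⁻¹ᵁ U) (x : Γ(Dm D i, U)) :
    tau D q g₁ g₁ h₁ h₁ l x = pullSec g₁ (Dm D i) l x := by
  have h : homD D q g₁ g₁ h₁ h₁ = 𝟙 _ := D.hom_self q g₁ h₁
  unfold tau
  rw [h]
  rfl

theorem tau_comp {U : (X i).Opens} {O : T.Opens} (l : O ≤ g₁ ⁻¹ᵁ U) (x : Γ(Dm D i, U)) :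
    (homD D q g₂ g₃ h₂ h₃).app O (tau D q g₁ g₂ h₁ h₂ l x) = tau D q g₁ g₃ h₁ h₃ l x := by
  have h : homD D q g₁ g₂ h₁ h₂ ≫ homD D q g₂ g₃ h₂ h₃ = homD D q g₁ g₃ h₁ h₃ :=
    D.hom_comp q g₁ g₂ g₃ h₁ h₂ h₃
  unfold tau
  rw [← h]
  rfl

theorem tau_map {U : (X i).Opens} {O O' : T.Opens} (hO : O' ≤ O) (l : O ≤ g₁ ⁻¹ᵁ U) (x : Γ(Dm D i, U)) :
    ((Scheme.Modules.pullback g₂).obj (Dm D j)).presheaf.map (homOfLE hO).op (tau D q g₁ g₂ h₁ h₂ l x) =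
      tau D q g₁ g₂ h₁ h₂ (hO.trans l) x := by
  unfold tau
  rw [← pullSec_map g₁ (Dm D i) hO l x]
  exact (map_app_comm _ _ _).symm

theorem tau_res {U U' : (X i).Opens} {O : T.Opens} (hU : U' ≤ U) (l : O ≤ g₁ ⁻¹ᵁ U') (x : Γ(Dm D i, U)) :
    tau D q g₁ g₂ h₁ h₂ l ((Dm D i).presheaf.map (homOfLE hU).op x) =
      tau D q g₁ g₂ h₁ h₂ (l.trans (g₁.preimage_mono hU)) x := by
  unfold tau
  rw [← pullSec_res g₁ (Dm D i) hU le_rfl (l.trans (g₁.preimage_mono hU)) l x, Subsingleton.elim (homOfLE (le_refl O)) (𝟙 O)]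
  simp only [op_id, CategoryTheory.Functor.map_id]
  rfl

variable (p : T' ⟶ T) (q' : T' ⟶ S) (g₁' : T' ⟶ X i) (g₂' : T' ⟶ X j)
  (e₁ : p ≫ g₁ = g₁') (e₂ : p ≫ g₂ = g₂') (h₁' : g₁' ≫ f i = q') (h₂' : g₂' ≫ f j = q')

theorem homD_pullback :
    homD D q' g₁' g₂' h₁' h₂' = (cmpIso p g₁ g₁' e₁ (Dm D i)).inv ≫
      (Scheme.Modules.pullback p).map (homD D q g₁ g₂ h₁ h₂) ≫ (cmpIso p g₂ g₂' e₂ (Dm D j)).hom := by
  have hq : p ≫ q = q' := by rw [← h₁', ← e₁, Category.assoc, h₁]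
  have h := D.pullHom_hom p q q' hq g₁ g₂ h₁ h₂ g₁' g₂' e₁ e₂
  rw [← mapComp'_hom p g₁ g₁' e₁ (Dm D i) (by rw [← e₁]; rfl),
    ← mapComp'_inv p g₂ g₂' e₂ (Dm D j) (by rw [← e₂]; rfl)]
  exact h.symm

include h₁ h₂ e₁ in
/-- The transport commutes with pullback. -/
theorem tau_bc {U : (X i).Opens} {O : T.Opens} {O' : T'.Opens} (l : O ≤ g₁ ⁻¹ᵁ U) (lp : O' ≤ p ⁻¹ᵁ O)
    (l' : O' ≤ g₁' ⁻¹ᵁ U) (x : Γ(Dm D i, U)) :
    cmp p g₂ g₂' e₂ (Dm D j) lp (tau D q g₁ g₂ h₁ h₂ l x) = tau D q' g₁' g₂' h₁' h₂' l' x := by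
  let C1 := cmpIso p g₁ g₁' e₁ (Dm D i)
  have e3 : C1.inv.app O' (pullSec g₁' (Dm D i) l' x) = pullSec p _ lp (pullSec g₁ (Dm D i) l x) := by
    rw [← cmp_pullSec p g₁ g₁' e₁ (Dm D i) l lp l' x]
    exact congrArg (fun ψ : (Scheme.Modules.pullback p).obj ((Scheme.Modules.pullback g₁).obj (Dm D i)) ⟶
      (Scheme.Modules.pullback p).obj ((Scheme.Modules.pullback g₁).obj (Dm D i)) =>
        ψ.app O' (pullSec p _ lp (pullSec g₁ (Dm D i) l x))) C1.hom_inv_id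
  show (cmpIso p g₂ g₂' e₂ (Dm D j)).hom.app O' (pullSec p _ lp
      ((homD D q g₁ g₂ h₁ h₂).app O (pullSec g₁ (Dm D i) l x))) =
    (homD D q' g₁' g₂' h₁' h₂').app O' (pullSec g₁' (Dm D i) l' x)
  rw [homD_pullback D q g₁ g₂ h₁ h₂ p q' g₁' g₂' e₁ e₂ h₁' h₂', ← pullSec_naturality p _ lp, ← e3]
  rfl

end Groth.Agent.QCohDesc
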